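import Mathlib
import Cfsg.Agent.Lib.SmallSimple.Tools

/-!
# Groups with the order and the element orders of `PSL_2 (q)`, `q` odd

The Sylow `p`-subgroups are abelian and intersect trivially.
-/

set_option autoImplicit false
set_option linter.style.haveILetI false

namespace Cfsg.Agent.PSL2.Spec

/-- The order and element-order hypothesis (`a = (q - 1) / 2`, `b = (q + 1) / 2`). -/
structure Hyp (G : Type*) [Group G] (p q a b : ℕ) : Prop where
  qpow : ∃ f, q = p ^ f
  odd : p ≠ 2
  five : 5 ≤ q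
  qa : q = 2 * a + 1
  ba : b = a + 1
  card : Nat.card G = 2 * q * (a * b)
  spec : ∀ g : G, orderOf g ∣ p ∨ orderOf g ∣ a ∨ orderOf g ∣ b
  exists_a : ∃ g : G, orderOf g = a
  exists_b : ∃ g : G, orderOf g = b

theorem dvd_card_of_dvd_index {K α : Type*} [Group K] [MulAction K α] [Finite K] [Finite α]
    {m : ℕ} (h : ∀ x : α, m ∣ (MulAction.stabilizer K x).index) : m ∣ Nat.card α := by
  letI := Fintype.ofFinite (MulAction.orbitRel.Quotient K α)
  rw [Nat.card_congr (MulAction.selfEquivSigmaOrbits K α), Nat.card_sigma]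
  refine Finset.dvd_sum fun w _ => ?_
  have := h w.out
  rwa [MulAction.index_stabilizer, ← Nat.card_coe_set_eq] at this

variable {G : Type*} [Group G]

/-- The conjugation action of a subgroup on an invariant set. -/
@[reducible] def conjAction (K : Subgroup G) (P : G → Prop)
    (hP : ∀ k ∈ K, ∀ x, P x → P (k * x * k⁻¹)) : MulAction K {x : G // P x} where
  smul k x := ⟨(k : G) * x.1 * (k : G)⁻¹, hP k k.2 x x.2⟩
  one_smul x := Subtype.ext (show ((1 : K) : G) * x.1 * ((1 : K) : G)⁻¹ = x.1 by simp)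
  mul_smul k l x := Subtype.ext
    (show ((k * l : K) : G) * x.1 * ((k * l : K) : G)⁻¹ =
      (k : G) * ((l : G) * x.1 * (l : G)⁻¹) * (k : G)⁻¹ by rw [Subgroup.coe_mul]; group)

theorem mem_centralizer_iff_conj {x g : G} :
    g ∈ Subgroup.centralizer ({x} : Set G) ↔ g * x * g⁻¹ = x := by
  rw [Subgroup.mem_centralizer_singleton_iff, mul_inv_eq_iff_eq_mul]

theorem centralizer_zpowers (y : G) :
    Subgroup.centralizer (Subgroup.zpowers y : Set G) = Subgroup.centralizer ({y} : Set G) := by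
  rw [Subgroup.zpowers_eq_closure, Subgroup.centralizer_closure]

/-- Subgroups of a cyclic subgroup with the same order coincide. -/
theorem eq_of_le_zpowers [Finite G] {z : G} {S T : Subgroup G} (hS : S ≤ Subgroup.zpowers z)
    (hT : T ≤ Subgroup.zpowers z) (hc : Nat.card S = Nat.card T) : S = T := by
  classical
  letI := Fintype.ofFinite G
  have key : ∀ L : Subgroup G, L ≤ Subgroup.zpowers z → Nat.card L = Nat.card S →
      (L : Set G) = {x | x ∈ Subgroup.zpowers z ∧ x ^ Nat.card S = 1} := fun L hL hcL => by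
    refine Set.eq_of_subset_of_ncard_le (fun x hx => ⟨hL hx, ?_⟩) ?_ (Set.toFinite _)
    · rw [← hcL]
      have h1 := congrArg Subtype.val (pow_card_eq_one' (x := (⟨x, hx⟩ : L)))
      rwa [SubgroupClass.coe_pow, OneMemClass.coe_one] at h1
    · rw [← Nat.card_coe_set_eq (L : Set G)]
      change _ ≤ Nat.card L
      rw [hcL, ← Nat.card_coe_set_eq]
      haveI : IsCyclic (Subgroup.zpowers z) := Subgroup.isCyclic_zpowers z
      refine le_trans (Nat.card_le_card_of_injective
        (fun x : ({x | x ∈ Subgroup.zpowers z ∧ x ^ Nat.card S = 1} : Set G) =>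
          (⟨⟨x.1, x.2.1⟩, Subtype.ext x.2.2⟩ :
            {u : Subgroup.zpowers z // u ^ Nat.card S = 1})) fun x y e => Subtype.ext
          (congrArg (fun u => ((u.1 : Subgroup.zpowers z) : G)) e)) ?_
      rw [Nat.card_eq_fintype_card, Fintype.card_subtype]
      exact IsCyclic.card_pow_eq_one_le Nat.card_pos
  exact SetLike.coe_injective ((key S hS rfl).trans (key T hT hc.symm).symm)

namespace Hyp

variable {p q a b : ℕ} (h : Hyp G p q a b)
include h

theorem a_pos : 2 ≤ a := by have := h.five; have := h.qa; omega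

theorem coprime_ab : Nat.Coprime a b := by
  rw [h.ba]; exact Nat.coprime_self_add_right.2 (Nat.coprime_one_right a)

theorem two_card : 2 * Nat.card G = q * (q ^ 2 - 1) := by
  have : q ^ 2 - 1 = 4 * (a * b) := by
    rw [h.ba, h.qa, show (2 * a + 1) ^ 2 = 4 * (a * (a + 1)) + 1 by ring]
    omega
  rw [h.card, this]; ring

theorem q_sq : q ^ 2 = 4 * (a * b) + 1 := by rw [h.ba, h.qa]; ring

variable [hp : Fact p.Prime]

theorem p_dvd_q : p ∣ q := by
  obtain ⟨f, hf⟩ := h.qpow
  rcases f with _ | f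
  · have := h.five; rw [pow_zero] at hf; omega
  · exact hf ▸ dvd_pow_self p (Nat.succ_ne_zero f)

omit hp in
theorem q_odd : Odd q := ⟨a, h.qa⟩

theorem not_dvd_a : ¬ p ∣ a := fun ha => by
  have h1 : p ∣ 2 * a + 1 := h.qa ▸ h.p_dvd_q
  exact hp.out.not_dvd_one ((Nat.dvd_add_right (ha.mul_left 2)).1 h1)

theorem not_dvd_b : ¬ p ∣ b := fun hb => by
  have h1 : p ∣ q + 1 := by rw [h.qa, show 2 * a + 1 + 1 = 2 * b by rw [h.ba]; ring]; exact hb.mul_left 2
  exact hp.out.not_dvd_one ((Nat.dvd_add_right h.p_dvd_q).1 h1)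

theorem not_dvd_m : ¬ p ∣ 2 * (a * b) := by
  intro h1
  rcases hp.out.dvd_mul.1 h1 with h2 | h2
  · exact h.odd ((Nat.prime_dvd_prime_iff_eq hp.out Nat.prime_two).1 h2)
  · rcases hp.out.dvd_mul.1 h2 with h3 | h3
    · exact h.not_dvd_a h3
    · exact h.not_dvd_b h3

omit hp in
theorem card' : Nat.card G = q * (2 * (a * b)) := by rw [h.card]; ring

theorem coprime_q_m : Nat.Coprime q (2 * (a * b)) := by
  obtain ⟨f, hf⟩ := h.qpow
  rw [hf]
  exact Nat.Coprime.pow_left _ ((Nat.Prime.coprime_iff_not_dvd hp.out).2 h.not_dvd_m)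

theorem card_sylow [Finite G] (P : Sylow p G) : Nat.card P = q := by
  obtain ⟨f, hf⟩ := h.qpow
  rw [hf]
  exact SmallSimple.card_sylow_subgroup (hf ▸ h.card') h.not_dvd_m P

theorem pow_p_of_dvd {g : G} (hg : p ∣ orderOf g) : g ^ p = 1 := by
  rcases h.spec g with e | e | e
  · exact orderOf_dvd_iff_pow_eq_one.1 e
  · exact absurd (hg.trans e) h.not_dvd_a
  · exact absurd (hg.trans e) h.not_dvd_b

theorem pow_p_or (g : G) : g ^ p = 1 ∨ ¬ p ∣ orderOf g := by
  by_cases hg : p ∣ orderOf g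
  · exact Or.inl (h.pow_p_of_dvd hg)
  · exact Or.inr hg

omit h in
theorem orderOf_eq {x : G} (hx : x ^ p = 1) (hx1 : x ≠ 1) : orderOf x = p :=
  orderOf_eq_prime hx hx1

theorem eq_one_of_comm {x g : G} (hx : orderOf x = p) (hg : Commute g x)
    (hgp : ¬ p ∣ orderOf g) : g = 1 := by
  have hco : Nat.Coprime (orderOf g) (orderOf x) := by
    rw [hx]; exact ((Nat.Prime.coprime_iff_not_dvd hp.out).2 hgp).symm
  have e1 : orderOf (g * x) = orderOf g * p := by
    rw [hg.orderOf_mul_eq_mul_orderOf_of_coprime hco, hx]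
  rcases h.spec (g * x) with e | e | e <;> rw [e1] at e
  · have : orderOf g * p ∣ 1 * p := by rwa [one_mul]
    exact orderOf_eq_one_iff.1 (Nat.dvd_one.1 (Nat.dvd_of_mul_dvd_mul_right hp.out.pos this))
  · exact absurd (dvd_of_mul_left_dvd e) h.not_dvd_a
  · exact absurd (dvd_of_mul_left_dvd e) h.not_dvd_b

theorem pow_p_of_comm {x g : G} (hx : x ^ p = 1) (hx1 : x ≠ 1) (hg : Commute g x) :
    g ^ p = 1 := by
  refine (h.pow_p_or g).elim id fun hgp => ?_
  rw [h.eq_one_of_comm (orderOf_eq hx hx1) hg hgp, one_pow]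

omit h hp in
theorem isPGroup_of_pow {K : Subgroup G} (hK : ∀ g ∈ K, g ^ p = 1) : IsPGroup p K :=
  fun g => ⟨1, Subtype.ext (by simpa using hK g g.2)⟩

theorem pow_p_of_mem {K : Subgroup G} (hK : IsPGroup p K) {g : G} (hg : g ∈ K) : g ^ p = 1 := by
  by_cases hg1 : g = 1
  · rw [hg1, one_pow]
  obtain ⟨n, hn⟩ := hK ⟨g, hg⟩
  have h1 : orderOf g ∣ p ^ n := orderOf_dvd_iff_pow_eq_one.2 (by simpa using congrArg Subtype.val hn)
  obtain ⟨k, -, hk⟩ := (Nat.dvd_prime_pow hp.out).1 h1
  refine h.pow_p_of_dvd ?_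
  rw [hk]
  refine dvd_pow_self p fun hk0 => hg1 ?_
  rw [hk0, pow_zero] at hk
  exact orderOf_eq_one_iff.1 hk

variable [Finite G]

theorem card_pow_p : Nat.card {g : G // g ^ p = 1 ∧ g ≠ 1} = 4 * (a * b) := by
  classical
  letI := Fintype.ofFinite G
  obtain ⟨P⟩ := (inferInstance : Nonempty (Sylow p G))
  -- the elements not killed by `p`
  have hSinv : ∀ k ∈ (P : Subgroup G), ∀ x : G, ¬ x ^ p = 1 → ¬ (k * x * k⁻¹) ^ p = 1 := by
    intro k _ x hx e
    rw [conj_pow, conj_eq_one_iff] at e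
    exact hx e
  letI := conjAction (P : Subgroup G) (fun x => ¬ x ^ p = 1) hSinv
  have hfree : ∀ x : {x : G // ¬ x ^ p = 1}, MulAction.stabilizer (P : Subgroup G) x = ⊥ := by
    intro x
    rw [eq_bot_iff]
    intro k hk
    by_contra hk1
    have hk' : (k : G) * x.1 * (k : G)⁻¹ = x.1 := congrArg Subtype.val (MulAction.mem_stabilizer_iff.1 hk)
    refine x.2 (h.pow_p_of_comm (h.pow_p_of_mem P.isPGroup' k.2) (fun e => hk1 ?_)
      (mul_inv_eq_iff_eq_mul.1 hk').symm)
    exact Subgroup.mem_bot.2 (Subtype.ext e)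
  have hS : q ∣ Nat.card {x : G // ¬ x ^ p = 1} := by
    have := Nat.card_congr (MulAction.selfEquivOrbitsQuotientProd hfree)
    rw [Nat.card_prod, h.card_sylow P] at this
    exact Dvd.intro_left _ this.symm
  -- the non-trivial elements killed by `p`
  have hTinv : ∀ k ∈ (⊤ : Subgroup G), ∀ x : G, (x ^ p = 1 ∧ x ≠ 1) →
      ((k * x * k⁻¹) ^ p = 1 ∧ k * x * k⁻¹ ≠ 1) := by
    intro k _ x hx
    rw [conj_pow, conj_eq_one_iff, Ne, conj_eq_one_iff]
    exact hx
  letI := conjAction (⊤ : Subgroup G) (fun x => x ^ p = 1 ∧ x ≠ 1) hTinv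
  have hT : 2 * (a * b) ∣ Nat.card {x : G // x ^ p = 1 ∧ x ≠ 1} := by
    refine dvd_card_of_dvd_index (K := (⊤ : Subgroup G)) fun x => ?_
    set K := MulAction.stabilizer (⊤ : Subgroup G) x with hK
    have e1 : Nat.card K * K.index = q * (2 * (a * b)) := by
      rw [K.card_mul_index, Subgroup.card_top, h.card']
    have hKp : IsPGroup p K := fun k => ⟨1, Subtype.ext (Subtype.ext (by
      have hk' : ((k : (⊤ : Subgroup G)) : G) * x.1 * ((k : (⊤ : Subgroup G)) : G)⁻¹ = x.1 :=
        congrArg Subtype.val (MulAction.mem_stabilizer_iff.1 k.2)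
      simpa using h.pow_p_of_comm x.2.1 x.2.2 (mul_inv_eq_iff_eq_mul.1 hk')))⟩
    obtain ⟨n, hn⟩ := hKp.exists_card_eq
    rw [hn] at e1
    exact (Nat.Coprime.pow_right n ((Nat.Prime.coprime_iff_not_dvd hp.out).2 h.not_dvd_m).symm).dvd_of_dvd_mul_left
      (Dvd.intro_left q e1.symm)
  -- the count
  obtain ⟨j, hj⟩ := hT
  obtain ⟨k, hk⟩ := hS
  have hsum : 1 + Nat.card {x : G // x ^ p = 1 ∧ x ≠ 1} + Nat.card {x : G // ¬ x ^ p = 1} =
      q * (2 * (a * b)) := by
    rw [← h.card', Nat.card_eq_fintype_card, Nat.card_eq_fintype_card, Nat.card_eq_fintype_card,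
      Fintype.card_subtype, Fintype.card_subtype, ← Finset.card_univ]
    have e1 := Finset.card_filter_add_card_filter_not (s := (Finset.univ : Finset G))
      (fun x => x ^ p = 1)
    have e2 : (Finset.univ.filter fun x : G => x ^ p = 1 ∧ x ≠ 1) =
        (Finset.univ.filter fun x : G => x ^ p = 1).erase 1 := by
      ext x; simp [and_comm]
    rw [e2, Finset.card_erase_of_mem (by simp)]
    have : 0 < (Finset.univ.filter fun x : G => x ^ p = 1).card :=
      Finset.card_pos.2 ⟨1, by simp⟩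
    omega
  rw [hj, hk] at hsum
  have hab : 0 < a * b := by have := h.a_pos; rw [h.ba]; positivity
  have hjq : j < q := by
    by_contra hle
    have := Nat.mul_le_mul_left (2 * (a * b)) (Nat.le_of_not_lt hle)
    rw [mul_comm q (2 * (a * b))] at hsum
    omega
  have hint : (q : ℤ) ∣ (j : ℤ) - 2 := by
    refine ⟨(j : ℤ) * q + 2 * k - 2 * (2 * (a * b)), ?_⟩
    have hsum' : (1 : ℤ) + 2 * (a * b) * j + q * k = q * (2 * (a * b)) := by exact_mod_cast hsum
    have hq2 : (q : ℤ) ^ 2 = 4 * (a * b) + 1 := by exact_mod_cast h.q_sq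
    linear_combination (j : ℤ) * (-1 : ℤ) * hq2 + (-2 : ℤ) * hsum'
  have hj2 : (j : ℤ) - 2 = 0 := by
    refine Int.eq_zero_of_abs_lt_dvd hint ?_
    have := h.five
    rw [abs_lt]
    constructor <;> omega
  rw [hj, show j = 2 by omega]
  ring

/-- The centraliser of an element of order `p` is a Sylow subgroup. -/
theorem card_centralizer {x : G} (hx : x ^ p = 1) (hx1 : x ≠ 1) :
    Nat.card (Subgroup.centralizer ({x} : Set G)) = q := by
  classical
  set C := Subgroup.centralizer ({x} : Set G) with hC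
  have hTinv : ∀ k ∈ (⊤ : Subgroup G), ∀ y : G, (y ^ p = 1 ∧ y ≠ 1) →
      ((k * y * k⁻¹) ^ p = 1 ∧ k * y * k⁻¹ ≠ 1) := by
    intro k _ y hy
    rw [conj_pow, conj_eq_one_iff, Ne, conj_eq_one_iff]
    exact hy
  letI := conjAction (⊤ : Subgroup G) (fun y => y ^ p = 1 ∧ y ≠ 1) hTinv
  set K := MulAction.stabilizer (⊤ : Subgroup G) (⟨x, hx, hx1⟩ : {y : G // y ^ p = 1 ∧ y ≠ 1})
  have hKC : Nat.card K = Nat.card C := Nat.card_congr
    { toFun := fun k => ⟨((k : (⊤ : Subgroup G)) : G), mem_centralizer_iff_conj.2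
        (congrArg Subtype.val (MulAction.mem_stabilizer_iff.1 k.2))⟩
      invFun := fun g => ⟨⟨g, trivial⟩, MulAction.mem_stabilizer_iff.2
        (Subtype.ext (mem_centralizer_iff_conj.1 g.2))⟩
      left_inv := fun _ => rfl
      right_inv := fun _ => rfl }
  have e1 : Nat.card K * K.index = q * (2 * (a * b)) := by
    rw [K.card_mul_index, Subgroup.card_top, h.card']
  have e2 : K.index ≤ 4 * (a * b) := by
    rw [← h.card_pow_p, MulAction.index_stabilizer, ← Nat.card_coe_set_eq]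
    exact Nat.card_le_card_of_injective _ Subtype.val_injective
  obtain ⟨n, hn⟩ := (Hyp.isPGroup_of_pow (K := C) fun g hg =>
    h.pow_p_of_comm hx hx1 (Subgroup.mem_centralizer_singleton_iff.1 hg)).exists_card_eq
  obtain ⟨f, hf⟩ := h.qpow
  have hnf : n ≤ f := by
    refine (Nat.pow_dvd_pow_iff_le_right hp.out.one_lt).1 ?_
    refine (Nat.Coprime.pow_left n ((Nat.Prime.coprime_iff_not_dvd hp.out).2 h.not_dvd_m)).dvd_of_dvd_mul_right ?_
    rw [← hf, ← hn, ← hKC]
    exact Dvd.intro _ e1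
  rw [hn]
  by_contra hne
  have hlt : n + 1 ≤ f := by
    rcases eq_or_lt_of_le hnf with e | e
    · exact absurd (e ▸ hf.symm) hne
    · exact e
  have h3 : p ^ n * 3 ≤ q := by
    rw [hf]
    refine le_trans ?_ (Nat.pow_le_pow_right hp.out.pos hlt)
    rw [pow_succ]
    refine Nat.mul_le_mul_left _ ?_
    have := hp.out.two_le
    have := h.odd
    omega
  rw [hKC, hn] at e1
  have hab : 0 < a * b := by have := h.a_pos; rw [h.ba]; positivity
  have h4 : p ^ n * K.index ≤ p ^ n * (4 * (a * b)) := Nat.mul_le_mul_left _ e2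
  have h5 : p ^ n * 3 * (2 * (a * b)) ≤ q * (2 * (a * b)) := Nat.mul_le_mul_right _ h3
  have h6 : p ^ n * (4 * (a * b)) < p ^ n * 3 * (2 * (a * b)) := by
    have : 0 < p ^ n := pow_pos hp.out.pos n
    nlinarith
  omega

/-- Odd elements normalising a subgroup of odd prime order `r ≠ p` lie in a cyclic group. -/
theorem odd_local {r : ℕ} [hr : Fact r.Prime] (hr2 : r ≠ 2) (hrp : r ≠ p) {y : G}
    (hy : orderOf y = r) :
    ∃ z : G, ∀ g ∈ Subgroup.normalizer ((Subgroup.zpowers y : Subgroup G) : Set G),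
      Odd (orderOf g) → g ∈ Subgroup.zpowers z := by
  classical
  have hab := h.coprime_ab
  have hrG : r ∣ Nat.card G := hy ▸ orderOf_dvd_natCard y
  obtain ⟨w, w', hw, hrw, hsgn⟩ : ∃ w w', (∃ z : G, orderOf z = w) ∧ r ∣ w ∧
      ((w = a ∧ w' = b) ∨ (w = b ∧ w' = a)) := by
    rcases h.spec y with e | e | e <;> rw [hy] at e
    · exact absurd ((Nat.prime_dvd_prime_iff_eq hr.out hp.out).1 e) hrp
    · exact ⟨a, b, h.exists_a, e, Or.inl ⟨rfl, rfl⟩⟩
    · exact ⟨b, a, h.exists_b, e, Or.inr ⟨rfl, rfl⟩⟩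
  obtain ⟨z₀, hz₀⟩ := hw
  have hww : w * w' = a * b := by rcases hsgn with ⟨rfl, rfl⟩ | ⟨rfl, rfl⟩ <;> ring
  have hco : Nat.Coprime w w' := by
    rcases hsgn with ⟨rfl, rfl⟩ | ⟨rfl, rfl⟩
    exacts [hab, hab.symm]
  have hrw' : ¬ r ∣ w' := fun e => hr.out.not_dvd_one (hco.gcd_eq_one ▸ Nat.dvd_gcd hrw e)
  have hrq : ¬ r ∣ q := by
    obtain ⟨f, hf⟩ := h.qpow
    exact fun e => hrp ((Nat.prime_dvd_prime_iff_eq hr.out hp.out).1 (hr.out.dvd_of_dvd_pow (hf ▸ e)))
  have hw0 : w ≠ 0 := hz₀ ▸ (orderOf_pos z₀).ne'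
  -- move `z₀` so that its powers contain `y`
  obtain ⟨z, hz, hyz⟩ : ∃ z : G, orderOf z = w ∧ y ∈ Subgroup.zpowers z := by
    obtain ⟨k, M, hM, hwk⟩ := Nat.exists_eq_pow_mul_and_not_dvd hw0 r hr.out.ne_one
    set u := z₀ ^ M with hu
    have hM0 : M ≠ 0 := fun e => hM (e ▸ dvd_zero r)
    have hou : orderOf u = r ^ k := by
      rw [hu, orderOf_pow' _ hM0, hz₀, hwk, Nat.gcd_mul_left_left,
        Nat.mul_div_cancel _ (Nat.pos_of_ne_zero hM0)]
    have hG : Nat.card G = r ^ k * (M * (2 * q * w')) := by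
      rw [h.card, ← hww, hwk]; ring
    have hnd : ¬ r ∣ M * (2 * q * w') := by
      simp only [hr.out.dvd_mul, hM, hrq, hrw', or_false, false_or]
      exact fun e => hr2 ((Nat.prime_dvd_prime_iff_eq hr.out Nat.prime_two).1 e)
    obtain ⟨R, hyR⟩ := IsPGroup.exists_le_sylow (p := r) (P := Subgroup.zpowers y)
      (IsPGroup.of_card (n := 1) (by rw [Nat.card_zpowers, hy, pow_one]))
    have hup : IsPGroup r (Subgroup.zpowers u) := IsPGroup.of_card (n := k) (by rw [Nat.card_zpowers, hou])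
    obtain ⟨R₀, huR⟩ := hup.exists_le_sylow
    have hR₀ : (R₀ : Subgroup G) = Subgroup.zpowers u :=
      (Subgroup.eq_of_le_of_card_ge huR (by
        rw [Nat.card_zpowers, hou, SmallSimple.card_sylow_subgroup hG hnd R₀])).symm
    obtain ⟨g, hg⟩ := MulAction.exists_smul_eq G R₀ R
    refine ⟨g * z₀ * g⁻¹, ?_, ?_⟩
    · exact (MulEquiv.orderOf_eq (MulAut.conj g) z₀).trans hz₀
    · have hy1 : y ∈ ((g • R₀ : Sylow r G) : Subgroup G) := hg ▸ hyR (Subgroup.mem_zpowers y)
      rw [Sylow.coe_subgroup_smul, Subgroup.mem_pointwise_smul_iff_inv_smul_mem, hR₀,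
        Subgroup.mem_zpowers_iff] at hy1
      obtain ⟨n, hn⟩ := hy1
      refine Subgroup.mem_zpowers_iff.2 ⟨(M : ℤ) * n, ?_⟩
      have hn' : u ^ n = g⁻¹ * y * g := by
        rw [hn]; simp [MulAut.smul_def]
      rw [conj_zpow, zpow_mul, zpow_natCast, ← hu, hn']
      group
  -- the centraliser
  set C := Subgroup.centralizer ({y} : Set G) with hCdef
  have hzC : Subgroup.zpowers z ≤ C := by
    intro g hg
    obtain ⟨i, rfl⟩ := Subgroup.mem_zpowers_iff.1 hg
    obtain ⟨j, hj⟩ := Subgroup.mem_zpowers_iff.1 hyz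
    exact Subgroup.mem_centralizer_singleton_iff.2 (hj ▸ ((Commute.refl z).zpow_zpow i j).eq)
  have hrnot : ∀ {n : ℕ}, r ∣ n → n ∣ p ∨ n ∣ a ∨ n ∣ b → n ∣ w := by
    intro n hrn hn
    have hnp : ¬ r ∣ p := fun e => hrp ((Nat.prime_dvd_prime_iff_eq hr.out hp.out).1 e)
    rcases hn with e | e | e
    · exact absurd (hrn.trans e) hnp
    · rcases hsgn with ⟨rfl, rfl⟩ | ⟨rfl, rfl⟩
      exacts [e, absurd (hrn.trans e) hrw']
    · rcases hsgn with ⟨rfl, rfl⟩ | ⟨rfl, rfl⟩
      exacts [absurd (hrn.trans e) hrw', e]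
  have hexp : ∀ g ∈ C, orderOf g ∣ w := by
    intro g hg
    by_cases hrg : r ∣ orderOf g
    · exact hrnot hrg (h.spec g)
    · have hc : Nat.Coprime (orderOf g) (orderOf y) :=
        hy ▸ ((Nat.Prime.coprime_iff_not_dvd hr.out).2 hrg).symm
      have e1 := (Commute.orderOf_mul_eq_mul_orderOf_of_coprime
        (Subgroup.mem_centralizer_singleton_iff.1 hg : Commute g y) hc)
      have e2 := hrnot (e1 ▸ hy ▸ Dvd.intro_left _ rfl) (h.spec (g * y))
      rw [e1] at e2
      exact dvd_of_mul_right_dvd e2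
  have hC2 : Nat.card C ∣ 2 * w := by
    refine (Nat.coprime_of_dvd fun s hs hsC hsq => ?_ :
      Nat.Coprime (Nat.card C) (q * w')).dvd_of_dvd_mul_right (?_ : Nat.card C ∣ 2 * w * (q * w'))
    · haveI := Fact.mk hs
      obtain ⟨g, hg⟩ := exists_prime_orderOf_dvd_card' s hsC
      have hsw : s ∣ w := by
        have := hexp g g.2
        rwa [Subgroup.orderOf_coe, hg] at this
      rcases hs.dvd_mul.1 hsq with e | e
      · obtain ⟨f, hf⟩ := h.qpow
        have hsp := (Nat.prime_dvd_prime_iff_eq hs hp.out).1 (hs.dvd_of_dvd_pow (hf ▸ e))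
        subst hsp
        rcases hsgn with ⟨rfl, -⟩ | ⟨rfl, -⟩
        exacts [h.not_dvd_a hsw, h.not_dvd_b hsw]
      · exact hs.not_dvd_one (hco.gcd_eq_one ▸ Nat.dvd_gcd hsw e)
    · have : 2 * w * (q * w') = Nat.card G := by rw [h.card, ← hww]; ring
      rw [this]
      exact Subgroup.card_subgroup_dvd_card C
  have hCw : w ∣ Nat.card C := by
    have := Subgroup.card_dvd_of_le hzC
    rwa [Nat.card_zpowers, hz] at this
  obtain ⟨ε, hε⟩ := hCw
  have hε2 : ε = 1 ∨ ε = 2 := by
    rw [hε, mul_comm 2 w] at hC2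
    exact (Nat.dvd_prime Nat.prime_two).1 (Nat.dvd_of_mul_dvd_mul_left (Nat.pos_of_ne_zero hw0) hC2)
  -- odd elements of the centraliser
  have hoddC : ∀ g ∈ C, Odd (orderOf g) → g ∈ Subgroup.zpowers z := by
    intro g hg hodd
    have hsq : g ^ 2 ∈ Subgroup.zpowers z := by
      have hidx : ((Subgroup.zpowers z).subgroupOf C).index = ε := by
        have := ((Subgroup.zpowers z).subgroupOf C).card_mul_index
        rw [Nat.card_congr (Subgroup.subgroupOfEquivOfLe hzC).toEquiv, Nat.card_zpowers, hz, hε] at this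
        exact Nat.eq_of_mul_eq_mul_left (Nat.pos_of_ne_zero hw0) this
      rcases hε2 with e | e <;> rw [e] at hidx
      · rw [Subgroup.index_eq_one] at hidx
        have : (⟨g ^ 2, pow_mem hg 2⟩ : C) ∈ (Subgroup.zpowers z).subgroupOf C := hidx ▸ trivial
        exact this
      · exact Subgroup.sq_mem_of_index_two hidx ⟨g, hg⟩
    obtain ⟨i, hi⟩ := hodd
    have : g = (g ^ 2) ^ (i + 1) := by
      rw [← pow_mul, show 2 * (i + 1) = orderOf g + 1 by omega, pow_succ, pow_orderOf_eq_one, one_mul]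
    rw [this]
    exact pow_mem hsq _
  -- the normaliser
  set Y := Subgroup.zpowers y with hY
  set N := Subgroup.normalizer (Y : Set G) with hN
  haveI : IsCyclic Y := Subgroup.isCyclic_zpowers y
  have hker : Nat.card (Y.normalizerMonoidHom).ker = Nat.card C := by
    have hle : Subgroup.centralizer (Y : Set G) ≤ N := Subgroup.centralizer_le_normalizer _
    rw [Subgroup.normalizerMonoidHom_ker, Nat.card_congr (Subgroup.subgroupOfEquivOfLe hle).toEquiv,
      hY, centralizer_zpowers]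
  obtain ⟨e, he, hNe⟩ : ∃ e, e ∣ r - 1 ∧ Nat.card N = ε * w * e := by
    refine ⟨Nat.card (Y.normalizerMonoidHom).range, ?_, ?_⟩
    · refine (Subgroup.card_subgroup_dvd_card _).trans (dvd_of_eq ?_)
      rw [IsCyclic.card_mulAut, Nat.card_zpowers, hy, Nat.totient_prime hr.out]
    · rw [← Subgroup.index_ker, ← mul_comm w, ← hε, ← hker, Subgroup.card_mul_index]
  obtain ⟨k, M, hM, hwk⟩ := Nat.exists_eq_pow_mul_and_not_dvd hw0 r hr.out.ne_one
  have hG : Nat.card G = r ^ k * (M * (2 * q * w')) := by rw [h.card, ← hww, hwk]; ring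
  have hnd : ¬ r ∣ M * (2 * q * w') := by
    simp only [hr.out.dvd_mul, hM, hrq, hrw', or_false, false_or]
    exact fun e => hr2 ((Nat.prime_dvd_prime_iff_eq hr.out Nat.prime_two).1 e)
  have hM0 : M ≠ 0 := fun e => hM (e ▸ dvd_zero r)
  have hou : orderOf (z ^ M) = r ^ k := by
    rw [orderOf_pow' _ hM0, hz, hwk, Nat.gcd_mul_left_left,
      Nat.mul_div_cancel _ (Nat.pos_of_ne_zero hM0)]
  obtain ⟨R₀, huR⟩ := (IsPGroup.of_card (n := k)
    (by rw [Nat.card_zpowers, hou]) : IsPGroup r (Subgroup.zpowers (z ^ M))).exists_le_sylow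
  have hR₀ : (R₀ : Subgroup G) = Subgroup.zpowers (z ^ M) :=
    (Subgroup.eq_of_le_of_card_ge huR (by
      rw [Nat.card_zpowers, hou, SmallSimple.card_sylow_subgroup hG hnd R₀])).symm
  have hR₀z : (R₀ : Subgroup G) ≤ Subgroup.zpowers z := by
    rw [hR₀, Subgroup.zpowers_le]; exact pow_mem (Subgroup.mem_zpowers z) M
  have huniq : ∀ S : Subgroup G, S ≤ Subgroup.zpowers z → ∀ T : Subgroup G,
      T ≤ Subgroup.zpowers z → Nat.card S = Nat.card T → S = T :=
    fun S hS T hT hc => eq_of_le_zpowers hS hT hc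
  have hk0 : k ≠ 0 := by rintro rfl; rw [pow_zero, one_mul] at hwk; exact hM (hwk ▸ hrw)
  have hYR : Y ≤ (R₀ : Subgroup G) := by
    obtain ⟨S, hS⟩ := Sylow.exists_subgroup_card_pow_prime (G := (R₀ : Subgroup G)) r (n := 1) (by
      rw [pow_one, SmallSimple.card_sylow_subgroup hG hnd R₀]; exact dvd_pow_self r hk0)
    have := huniq Y (Subgroup.zpowers_le.2 hyz) (S.map (Subgroup.subtype _))
      ((Subgroup.map_subtype_le S).trans hR₀z)
      (by rw [Nat.card_zpowers, hy, Subgroup.card_map_of_injective Subtype.coe_injective, hS, pow_one])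
    exact this ▸ Subgroup.map_subtype_le S
  have hNR : Subgroup.normalizer ((R₀ : Subgroup G) : Set G) = N := by
    ext g
    constructor
    · intro hg
      refine Subgroup.mem_normalizer_iff_map_conj_eq.2 (huniq _ ?_ _ (Subgroup.zpowers_le.2 hyz) ?_)
      · refine le_trans ?_ hR₀z
        rintro _ ⟨x, hx, rfl⟩
        exact (Subgroup.mem_normalizer_iff.1 hg x).1 (hYR hx)
      · exact Subgroup.card_map_of_injective (MulAut.conj g).injective
    · intro hg
      refine Subgroup.mem_normalizer_iff_map_conj_eq.2 (huniq _ ?_ _ hR₀z ?_)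
      · rintro _ ⟨x, hx, rfl⟩
        have hxz := hR₀z hx
        refine hoddC _ ?_ ?_
        · have hyN : g⁻¹ * y * g ∈ Y := by
            have := (Subgroup.mem_normalizer_iff.1 (inv_mem hg) y).1 (Subgroup.mem_zpowers y)
            simpa using this
          obtain ⟨i, hi⟩ := Subgroup.mem_zpowers_iff.1 hyN
          have hxy : Commute x (g⁻¹ * y * g) :=
            hi ▸ Commute.zpow_right (Subgroup.mem_centralizer_singleton_iff.1 (hzC hxz) : Commute x y) i
          refine Subgroup.mem_centralizer_singleton_iff.2 ?_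
          have h1 := congrArg (fun t => g * t * g⁻¹) hxy.eq
          simpa [mul_assoc] using h1
        · show Odd (orderOf (MulAut.conj g x))
          rw [MulEquiv.orderOf_eq (MulAut.conj g) x]
          obtain ⟨i, hi⟩ := R₀.isPGroup' ⟨x, hx⟩
          have h1 : orderOf x ∣ r ^ i :=
            orderOf_dvd_iff_pow_eq_one.2 (by simpa using congrArg Subtype.val hi)
          exact (hr.out.odd_of_ne_two hr2).pow.of_dvd_nat h1
      · exact Subgroup.card_map_of_injective (MulAut.conj g).injective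
  have hNcard : Nat.card N = 2 * w := by
    have hn := card_sylow_modEq_one r G
    rw [R₀.card_eq_index_normalizer] at hn
    change (Subgroup.normalizer ((R₀ : Subgroup G) : Set G)).index ≡ 1 [MOD r] at hn
    rw [hNR] at hn
    have e1 : 2 * q * w' * w = ε * e * N.index * w := by
      have := N.card_mul_index
      rw [hNe, h.card, ← hww] at this
      linarith
    have e2 : 2 * q * w' = ε * e * N.index := Nat.eq_of_mul_eq_mul_right (Nat.pos_of_ne_zero hw0) e1
    have e3 : ((ε * e : ℕ) : ZMod r) = 2 := by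
      have hi : ((N.index : ℕ) : ZMod r) = 1 := by
        rw [← Nat.cast_one, ZMod.natCast_eq_natCast_iff]; exact hn
      have e4 := congrArg (Nat.cast (R := ZMod r)) e2
      push_cast at e4 ⊢
      rw [hi, mul_one] at e4
      rw [← e4]
      have hw' : (w : ZMod r) = 0 := (ZMod.natCast_eq_zero_iff _ _).2 hrw
      have hqa : (q : ZMod r) = 2 * a + 1 := by rw [h.qa]; push_cast; ring
      have hba : (b : ZMod r) = a + 1 := by rw [h.ba]; push_cast; ring
      rcases hsgn with ⟨rfl, rfl⟩ | ⟨rfl, rfl⟩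
      · rw [hqa, hba, hw']; ring
      · rw [hba] at hw'
        rw [hqa, show (w' : ZMod r) = -1 from eq_neg_of_add_eq_zero_left hw']
        ring
    have e5 : ε * e % r = 2 := by
      rw [show ((2 : ZMod r)) = ((2 : ℕ) : ZMod r) by norm_num, ZMod.natCast_eq_natCast_iff'] at e3
      rw [e3, Nat.mod_eq_of_lt]
      have := hr.out.two_le; omega
    have h3 : 3 ≤ r := by have := hr.out.two_le; omega
    have he' : e ≤ r - 1 := Nat.le_of_dvd (by omega) he
    rw [hNe]
    suffices ε * e = 2 by rw [mul_right_comm, this]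
    rcases hε2 with rfl | rfl
    · rw [one_mul, Nat.mod_eq_of_lt (by omega)] at e5; omega
    · by_cases hlt : 2 * e < r
      · rwa [Nat.mod_eq_of_lt hlt] at e5
      · rw [Nat.mod_eq_sub_mod (by omega), Nat.mod_eq_of_lt (by omega)] at e5
        obtain ⟨i, hi⟩ := hr.out.odd_of_ne_two hr2
        omega
  -- the conclusion
  refine ⟨z, fun g hg hodd => ?_⟩
  have hzN : Subgroup.zpowers z ≤ N :=
    hzC.trans (by
      rw [hCdef, ← centralizer_zpowers]; exact Subgroup.centralizer_le_normalizer _)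
  have hidx : ((Subgroup.zpowers z).subgroupOf N).index = 2 := by
    have := ((Subgroup.zpowers z).subgroupOf N).card_mul_index
    rw [Nat.card_congr (Subgroup.subgroupOfEquivOfLe hzN).toEquiv, Nat.card_zpowers, hz, hNcard,
      mul_comm 2 w] at this
    exact Nat.eq_of_mul_eq_mul_left (Nat.pos_of_ne_zero hw0) this
  have hsq : g ^ 2 ∈ Subgroup.zpowers z := Subgroup.sq_mem_of_index_two hidx ⟨g, hg⟩
  obtain ⟨i, hi⟩ := hodd
  have : g = (g ^ 2) ^ (i + 1) := by
    rw [← pow_mul, show 2 * (i + 1) = orderOf g + 1 by omega, pow_succ, pow_orderOf_eq_one, one_mul]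
  rw [this]
  exact pow_mem hsq _

/-- The `p`-elements normalising a non-trivial `p`-subgroup lie in one `p`-group. -/
theorem local_closed {D : Subgroup G} (hD : IsPGroup p D) (hD1 : D ≠ ⊥) :
    ∃ T : Subgroup G, IsPGroup p T ∧
      ∀ u ∈ Subgroup.normalizer (D : Set G), u ^ p = 1 → u ∈ T := by
  classical
  set X := Subgroup.normalizer (D : Set G) with hX
  obtain ⟨x, hxD, hx1⟩ : ∃ x ∈ D, x ≠ 1 := by
    obtain ⟨⟨x, hx⟩, hne⟩ := Subgroup.ne_bot_iff_exists_ne_one.1 hD1
    exact ⟨x, hx, fun e => hne (Subtype.ext e)⟩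
  have hxp := h.pow_p_of_mem hD hxD
  set C := Subgroup.centralizer (D : Set G) with hC
  have hCp : ∀ g ∈ C, g ^ p = 1 := fun g hg =>
    h.pow_p_of_comm hxp hx1 (Subgroup.mem_centralizer_iff.1 hg x hxD).symm
  by_cases hev : ∃ t ∈ X, orderOf t = 2
  · obtain ⟨t, htX, ht⟩ := hev
    have hinv : ∀ s ∈ X, orderOf s = 2 → ∀ d ∈ D, s * d * s⁻¹ = d⁻¹ := by
      intro s hsX hs d hd
      have hss : s * s = 1 := by rw [← pow_two, ← hs]; exact pow_orderOf_eq_one s
      let φ : D →* D :=
        { toFun := fun d => ⟨s * d * s⁻¹, (Subgroup.mem_normalizer_iff.1 hsX d).1 d.2⟩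
          map_one' := Subtype.ext (by simp)
          map_mul' := fun d e => Subtype.ext (show s * ((d : G) * e) * s⁻¹ =
            (s * d * s⁻¹) * (s * e * s⁻¹) by group) }
      have hfix : MonoidHom.FixedPointFree φ := by
        intro d hd'
        by_contra hd1
        have hc : s * d * s⁻¹ = d := congrArg Subtype.val hd'
        have := h.eq_one_of_comm (orderOf_eq (h.pow_p_of_mem hD d.2) fun e => hd1 (Subtype.ext e))
          (mul_inv_eq_iff_eq_mul.1 hc : Commute s d)
          (by rw [hs]; exact fun e => h.odd ((Nat.prime_dvd_prime_iff_eq hp.out Nat.prime_two).1 e))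
        rw [this, orderOf_one] at hs
        omega
      have h2 : Function.Involutive φ := fun d => Subtype.ext
        (show s * (s * d * s⁻¹) * s⁻¹ = d by
          rw [show s * (s * (d : G) * s⁻¹) * s⁻¹ = (s * s) * d * (s * s)⁻¹ by group, hss]; group)
      exact congrArg Subtype.val (congrFun (hfix.coe_eq_inv_of_involutive h2) ⟨d, hd⟩)
    refine ⟨C, Hyp.isPGroup_of_pow hCp, fun u hu hup => ?_⟩
    set t' := u * t * u⁻¹ with ht'
    have ht'X : t' ∈ X := mul_mem (mul_mem hu htX) (inv_mem hu)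
    have ht'2 : orderOf t' = 2 := (MulEquiv.orderOf_eq (MulAut.conj u) t).trans ht
    have htt : t * t = 1 := by rw [← pow_two, ← ht]; exact pow_orderOf_eq_one t
    have ht'' : t' * t' = 1 := by rw [← pow_two, ← ht'2]; exact pow_orderOf_eq_one t'
    set v := t' * t with hv
    have hvC : v ∈ C := by
      refine Subgroup.mem_centralizer_iff.2 fun d hd => ?_
      have h1 := hinv t htX ht d hd
      have h2 := hinv t' ht'X ht'2 d⁻¹ (inv_mem hd)
      rw [inv_inv] at h2
      have h3 : v * d * v⁻¹ = d := by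
        rw [hv, show t' * t * d * (t' * t)⁻¹ = t' * (t * d * t⁻¹) * t'⁻¹ by group, h1, h2]
      exact (mul_inv_eq_iff_eq_mul.1 h3).symm
    set w := v ^ ((p + 1) / 2) with hw
    have hw2 : w * w = v := by
      obtain ⟨i, hi⟩ := hp.out.odd_of_ne_two h.odd
      rw [hw, ← pow_add, show (p + 1) / 2 + (p + 1) / 2 = p + 1 by omega, pow_succ, hCp v hvC, one_mul]
    have hti : t⁻¹ = t := inv_eq_of_mul_eq_one_right htt
    have ht'i : t'⁻¹ = t' := inv_eq_of_mul_eq_one_right ht''
    have htw : t * w * t⁻¹ = w⁻¹ := by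
      rw [hw, ← conj_pow, ← inv_pow]
      congr 1
      rw [hv, mul_inv_rev, hti, ht'i, mul_assoc t, mul_assoc t', htt, mul_one]
    have hwt : w * t * w⁻¹ = t' := by
      calc w * t * w⁻¹ = w * (t * w⁻¹ * t⁻¹) * t := by group
        _ = w * w * t := by
          rw [show t * w⁻¹ * t⁻¹ = (t * w * t⁻¹)⁻¹ by group, htw, inv_inv]
        _ = t' := by rw [hw2, hv, mul_assoc, htt, mul_one]
    have hwC : w ∈ C := pow_mem hvC _
    have hwX : w ∈ X := Subgroup.centralizer_le_normalizer _ hwC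
    set s := w⁻¹ * u with hs
    have hst : Commute s t := by
      have h1 : w * t * w⁻¹ = u * t * u⁻¹ := hwt
      show w⁻¹ * u * t = t * (w⁻¹ * u)
      calc w⁻¹ * u * t = w⁻¹ * (u * t * u⁻¹) * u := by group
        _ = w⁻¹ * (w * t * w⁻¹) * u := by rw [h1]
        _ = t * (w⁻¹ * u) := by group
    have hsp : ¬ p ∣ orderOf s := by
      intro e
      have h1 := h.eq_one_of_comm (orderOf_eq (h.pow_p_of_dvd e) fun e1 => by
          rw [e1, orderOf_one] at e; exact hp.out.not_dvd_one e) hst.symm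
        (by rw [ht]; exact fun e => h.odd ((Nat.prime_dvd_prime_iff_eq hp.out Nat.prime_two).1 e))
      rw [h1, orderOf_one] at ht
      omega
    haveI : (C.subgroupOf X).Normal := ⟨fun c hc g => by
      rw [Subgroup.mem_subgroupOf] at hc ⊢
      refine Subgroup.mem_centralizer_iff.2 fun d hd => ?_
      have hd' : (g : G)⁻¹ * d * g ∈ D := by
        simpa using (Subgroup.mem_normalizer_iff.1 (inv_mem g.2) d).1 hd
      have h1 := Subgroup.mem_centralizer_iff.1 hc _ hd'
      have h2 := congrArg (fun t => (g : G) * t * (g : G)⁻¹) h1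
      simpa [mul_assoc] using h2⟩
    let π := QuotientGroup.mk' (C.subgroupOf X)
    have hπ : π ⟨u, hu⟩ = π ⟨s, mul_mem (inv_mem hwX) hu⟩ := by
      rw [← mul_inv_eq_one, ← map_inv, ← map_mul]
      refine (QuotientGroup.eq_one_iff _).2 ?_
      rw [Subgroup.mem_subgroupOf]
      show u * (w⁻¹ * u)⁻¹ ∈ C
      rw [show u * (w⁻¹ * u)⁻¹ = w by group]
      exact hwC
    have h1 : orderOf (π ⟨u, hu⟩) ∣ p :=
      orderOf_dvd_iff_pow_eq_one.2 (by
        rw [← map_pow, show (⟨u, hu⟩ : X) ^ p = 1 from Subtype.ext hup, map_one])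
    have h2 : orderOf (π ⟨u, hu⟩) ∣ orderOf s := by
      rw [hπ]
      have := orderOf_map_dvd π ⟨s, mul_mem (inv_mem hwX) hu⟩
      rwa [Subgroup.orderOf_mk] at this
    have h3 := Nat.dvd_gcd h1 h2
    rw [((Nat.Prime.coprime_iff_not_dvd hp.out).2 hsp).gcd_eq_one, Nat.dvd_one, orderOf_eq_one_iff] at h3
    exact Subgroup.mem_subgroupOf.1 ((QuotientGroup.eq_one_iff (⟨u, hu⟩ : X)).1 h3)
  push Not at hev
  have hodd : ∀ g ∈ X, Odd (orderOf g) := by
    intro g hg
    refine Nat.not_even_iff_odd.1 fun he => hev (g ^ (orderOf g / 2)) (pow_mem hg _) ?_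
    exact orderOf_pow_orderOf_div (orderOf_pos g).ne' he.two_dvd
  have key : ∀ r : ℕ, r.Prime → r ≠ p → ∃ K : Subgroup X, K.Normal ∧ ¬ r ∣ Nat.card K ∧
      ∀ u : X, u ^ p = 1 → u ∈ K := by
    intro r hr hrp
    haveI := Fact.mk hr
    obtain ⟨R⟩ := (inferInstance : Nonempty (Sylow r X))
    by_cases hR : (R : Subgroup X) = ⊥
    · refine ⟨⊤, inferInstance, fun e => ?_, fun u _ => trivial⟩
      rw [Subgroup.card_top] at e
      have := R.dvd_card_of_dvd_card e
      change r ∣ Nat.card (R : Subgroup X) at this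
      rw [hR, Subgroup.card_bot, Nat.dvd_one] at this
      exact hr.ne_one this
    have hrR : r ∣ Nat.card (R : Subgroup X) :=
      R.isPGroup'.card_eq_or_dvd.resolve_left fun e => hR (Subgroup.card_eq_one.1 e)
    haveI : Nontrivial (R : Subgroup X) := (Subgroup.nontrivial_iff_ne_bot _).2 hR
    haveI := R.isPGroup'.center_nontrivial
    obtain ⟨y, hy⟩ : ∃ y : Subgroup.center (R : Subgroup X), orderOf y = r := by
      refine exists_prime_orderOf_dvd_card' r ?_
      exact (R.isPGroup'.to_subgroup _).card_eq_or_dvd.resolve_left Finite.one_lt_card.ne'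
    set y' : X := ((y : (R : Subgroup X)) : X) with hy'
    have hyG : orderOf (y' : G) = r := by
      rw [hy', Subgroup.orderOf_coe, Subgroup.orderOf_coe, Subgroup.orderOf_coe, hy]
    have hr2 : r ≠ 2 := by
      rintro rfl
      exact hev _ y'.2 hyG
    obtain ⟨z, hz⟩ := h.odd_local hr2 hrp hyG
    have hcent : ∀ v ∈ (R : Subgroup X), Commute (v : G) (y' : G) := fun v hv => by
      have := congrArg (fun u : (R : Subgroup X) => ((u : X) : G))
        (Subgroup.mem_center_iff.1 y.2 ⟨v, hv⟩)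
      exact this
    have hRz : ∀ v ∈ (R : Subgroup X), (v : G) ∈ Subgroup.zpowers z := fun v hv => by
      refine hz _ ?_ (hodd _ v.2)
      refine Subgroup.centralizer_le_normalizer _ ?_
      rw [centralizer_zpowers]
      exact Subgroup.mem_centralizer_singleton_iff.2 (hcent v hv).eq
    have hR' : Subgroup.normalizer ((R : Subgroup X) : Set X) ≤
        Subgroup.centralizer ((R : Subgroup X) : Set X) := by
      intro g hg
      refine Subgroup.mem_centralizer_iff.2 fun v hv => Subtype.ext ?_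
      have hgz : (g : G) ∈ Subgroup.zpowers z := by
        refine hz _ ?_ (hodd _ g.2)
        have hg' : g * y' * g⁻¹ ∈ (R : Subgroup X) :=
          (Subgroup.mem_normalizer_iff.1 hg y').1 (y : (R : Subgroup X)).2
        refine Subgroup.mem_normalizer_iff_map_conj_eq.2 ?_
        rw [MonoidHom.map_zpowers]
        refine eq_of_le_zpowers (z := z) (Subgroup.zpowers_le.2 (hRz _ hg'))
          (Subgroup.zpowers_le.2 (hRz _ (y : (R : Subgroup X)).2)) ?_
        rw [Nat.card_zpowers, Nat.card_zpowers]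
        exact MulEquiv.orderOf_eq (MulAut.conj (g : G)) (y' : G)
      obtain ⟨i, hi⟩ := Subgroup.mem_zpowers_iff.1 hgz
      obtain ⟨j, hj⟩ := Subgroup.mem_zpowers_iff.1 (hRz v hv)
      show (v : G) * g = g * v
      rw [← hi, ← hj]
      exact ((Commute.refl z).zpow_zpow j i).eq
    refine ⟨(MonoidHom.transferSylow R hR').ker, inferInstance,
      MonoidHom.not_dvd_card_ker_transferSylow R hR', fun u hu => ?_⟩
    rw [MonoidHom.mem_ker]
    obtain ⟨i, hi⟩ := R.isPGroup' (MonoidHom.transferSylow R hR' u)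
    have h1 : orderOf (MonoidHom.transferSylow R hR' u) ∣ r ^ i := orderOf_dvd_iff_pow_eq_one.2 hi
    have h2 : orderOf (MonoidHom.transferSylow R hR' u) ∣ p :=
      orderOf_dvd_iff_pow_eq_one.2 (by rw [← map_pow, hu, map_one])
    have h3 := Nat.dvd_gcd h1 h2
    rw [(Nat.Coprime.pow_left i ((Nat.coprime_primes hr hp.out).2 hrp)).gcd_eq_one, Nat.dvd_one,
      orderOf_eq_one_iff] at h3
    exact h3
  choose K hKn hKr hKp using key
  let T₀ : Subgroup X := ⨅ (r : ℕ) (hr : r.Prime) (hrp : r ≠ p), K r hr hrp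
  refine ⟨T₀.map X.subtype, (Hyp.isPGroup_of_pow ?_), fun u hu hup => ?_⟩
  · rintro _ ⟨g, hg, rfl⟩
    by_cases hg1 : g = 1
    · simp [hg1]
    obtain ⟨r, hr, hrd⟩ := Nat.exists_prime_and_dvd
      (n := orderOf (X.subtype g)) (fun e => hg1 (Subtype.ext (orderOf_eq_one_iff.1 e)))
    by_cases hrp : r = p
    · exact h.pow_p_of_dvd (hrp ▸ hrd)
    have hgK : g ∈ K r hr hrp :=
      Subgroup.mem_iInf.1 (Subgroup.mem_iInf.1 (Subgroup.mem_iInf.1 hg r) hr) hrp
    refine absurd (hrd.trans ?_) (hKr r hr hrp)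
    have := orderOf_dvd_natCard (⟨g, hgK⟩ : K r hr hrp)
    rw [Subgroup.orderOf_mk] at this
    rwa [Subgroup.coe_subtype, Subgroup.orderOf_coe]
  · refine ⟨⟨u, hu⟩, ?_, rfl⟩
    simp only [T₀, SetLike.mem_coe, Subgroup.mem_iInf]
    exact fun r hr hrp => hKp r hr hrp _ (Subtype.ext hup)

theorem sylow_disjoint {P Q : Sylow p G} (hPQ : P ≠ Q) :
    (P : Subgroup G) ⊓ (Q : Subgroup G) = ⊥ := by
  classical
  letI := Fintype.ofFinite (Sylow p G)
  by_contra hne
  obtain ⟨⟨A, B⟩, hmem, hmax⟩ := Finset.exists_max_image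
    ((Finset.univ : Finset (Sylow p G × Sylow p G)).filter fun x => x.1 ≠ x.2)
    (fun x => Nat.card ((x.1 : Subgroup G) ⊓ (x.2 : Subgroup G) : Subgroup G)) ⟨(P, Q), by simp [hPQ]⟩
  simp only [Finset.mem_filter, Finset.mem_univ, true_and] at hmem
  set D := (A : Subgroup G) ⊓ (B : Subgroup G) with hD
  have hD1 : D ≠ ⊥ := by
    intro e
    have := hmax (P, Q) (by simp [hPQ])
    simp only [e, Subgroup.card_bot] at this
    exact hne (Subgroup.card_eq_one.1 (le_antisymm this Nat.card_pos))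
  obtain ⟨T, hT, hTmem⟩ := h.local_closed (A.isPGroup'.to_le inf_le_left) hD1
  obtain ⟨T', hTT'⟩ := hT.exists_le_sylow
  have key : ∀ S S' : Sylow p G, S ≠ S' → D = (S : Subgroup G) ⊓ (S' : Subgroup G) → S = T' := by
    intro S S' hSS hDS
    by_contra hST
    have hlt : D < (S : Subgroup G) := by
      refine lt_of_le_of_ne (hDS ▸ inf_le_left) fun e => hSS (Sylow.ext ?_)
      have hle : (S : Subgroup G) ≤ S' := by rw [← e, hDS]; exact inf_le_right
      exact Subgroup.eq_of_le_of_card_ge hle (by rw [h.card_sylow, h.card_sylow])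
    haveI : Group.IsNilpotent (S : Subgroup G) := S.isPGroup'.isNilpotent
    have hlt' : D.subgroupOf (S : Subgroup G) < ⊤ := by
      rw [lt_top_iff_ne_top]
      exact fun e => hlt.not_ge (Subgroup.subgroupOf_eq_top.1 e)
    obtain ⟨u, hu, huD⟩ := SetLike.exists_of_lt (Group.normalizerCondition_of_isNilpotent _ hlt')
    rw [Subgroup.mem_subgroupOf] at huD
    have huX : (u : G) ∈ Subgroup.normalizer (D : Set G) := by
      rw [Subgroup.mem_normalizer_iff] at hu ⊢
      intro d
      constructor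
      · intro hd
        exact (hu ⟨d, hlt.le hd⟩).1 hd
      · intro hd
        have hd2 : d ∈ (S : Subgroup G) := by
          have := mul_mem (mul_mem (inv_mem u.2) (hlt.le hd)) u.2
          simpa [mul_assoc] using this
        exact (hu ⟨d, hd2⟩).2 hd
    have huT : (u : G) ∈ (T' : Subgroup G) :=
      hTT' (hTmem _ huX (h.pow_p_of_mem S.isPGroup' u.2))
    have hDT : D ≤ (T' : Subgroup G) := fun d hd =>
      hTT' (hTmem d (Subgroup.le_normalizer hd) (h.pow_p_of_mem S.isPGroup' (hlt.le hd)))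
    have hlt2 : D < (S : Subgroup G) ⊓ (T' : Subgroup G) :=
      lt_of_le_of_ne (le_inf hlt.le hDT) fun e => huD (by rw [e]; exact ⟨u.2, huT⟩)
    have h1 := hmax (S, T') (by simpa using hST)
    exact hlt2.ne (Subgroup.eq_of_le_of_card_ge hlt2.le h1)
  exact hmem ((key A B hmem rfl).trans (key B A hmem.symm (inf_comm _ _)).symm)

/-- The Sylow subgroups are abelian; indeed they are centralisers. -/
theorem centralizer_eq (P : Sylow p G) {x : G} (hxP : x ∈ (P : Subgroup G)) (hx1 : x ≠ 1) :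
    Subgroup.centralizer ({x} : Set G) = (P : Subgroup G) := by
  have hxp := h.pow_p_of_mem P.isPGroup' hxP
  set C := Subgroup.centralizer ({x} : Set G) with hC
  obtain ⟨Q, hQ⟩ := (Hyp.isPGroup_of_pow (K := C) fun g hg =>
    h.pow_p_of_comm hxp hx1 (Subgroup.mem_centralizer_singleton_iff.1 hg)).exists_le_sylow
  have hCQ : C = (Q : Subgroup G) :=
    Subgroup.eq_of_le_of_card_ge hQ (by rw [h.card_sylow, h.card_centralizer hxp hx1])
  by_cases hPQ : P = Q
  · rw [hCQ, hPQ]
  have : x ∈ (P : Subgroup G) ⊓ (Q : Subgroup G) :=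
    ⟨hxP, hQ (Subgroup.mem_centralizer_singleton_iff.2 rfl)⟩
  rw [h.sylow_disjoint hPQ, Subgroup.mem_bot] at this
  exact absurd this hx1

end Hyp

end Cfsg.Agent.PSL2.Spec
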