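import Cfsg.Agent.Lib.PSL2.Spectrum.Local
import Cfsg.Agent.Lib.PSL2.SylowAction
import Cfsg.Agent.Lib.Perm.ZassenhausEven
import Cfsg.Agent.Lib.Perm.ZassenhausNormal
import Cfsg.Agent.Lib.ZassenhausFeit.Inequality

/-!
# `PSL_2 (q)`, `q` odd, is determined by its order and its element orders

The `q + 1` Sylow `p`-subgroups give a Zassenhaus action of the subgroup they generate; Feit's
inequality shows that it is everything.
-/

set_option autoImplicit false
set_option linter.style.haveILetI false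

namespace Cfsg.Agent.PSL2.Spec.Hyp

open MulAction Cfsg.Agent.SmallSimple
open scoped MatrixGroups Pointwise

universe u

variable {G : Type*} [Group G] [Finite G] {p q a b : ℕ} [hp : Fact p.Prime] (h : Hyp G p q a b)
include h

/-- Non-trivial `p`-elements in a normal subgroup. -/
theorem card_inter (P : Sylow p G) (M : Subgroup G) [M.Normal] :
    Nat.card {g : G // g ∈ M ∧ g ^ p = 1 ∧ g ≠ 1} =
      Nat.card (Sylow p G) * (Nat.card (M ⊓ (P : Subgroup G) : Subgroup G) - 1) := by
  classical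
  letI := Fintype.ofFinite (Sylow p G)
  letI := Fintype.ofFinite G
  let e : (Σ Q : Sylow p G, {g : G // g ∈ M ⊓ (Q : Subgroup G) ∧ g ≠ 1}) →
      {g : G // g ∈ M ∧ g ^ p = 1 ∧ g ≠ 1} := fun x =>
    ⟨x.2.1, x.2.2.1.1, h.pow_p_of_mem x.1.isPGroup' x.2.2.1.2, x.2.2.2⟩
  have he : Function.Bijective e := by
    constructor
    · rintro ⟨Q, g, hg⟩ ⟨R, k, hk⟩ hx
      have hgk : g = k := congrArg Subtype.val hx
      subst hgk
      by_cases hQR : Q = R
      · subst hQR; rfl
      · have : g ∈ (Q : Subgroup G) ⊓ (R : Subgroup G) := ⟨hg.1.2, hk.1.2⟩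
        rw [h.sylow_disjoint hQR, Subgroup.mem_bot] at this
        exact absurd this hg.2
    · rintro ⟨g, hgM, hgp, hg1⟩
      obtain ⟨Q, hQ⟩ := (IsPGroup.of_card (n := 1)
        (by rw [Nat.card_zpowers, orderOf_eq_prime hgp hg1, pow_one]) :
          IsPGroup p (Subgroup.zpowers g)).exists_le_sylow
      exact ⟨⟨Q, g, ⟨hgM, hQ (Subgroup.mem_zpowers g)⟩, hg1⟩, rfl⟩
  rw [← Nat.card_eq_of_bijective e he, Nat.card_sigma, Finset.sum_eq_card_nsmul (fun Q _ => ?_),
    Finset.card_univ, smul_eq_mul, Nat.card_eq_fintype_card]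
  have hpt : ∀ K : Subgroup G, Nat.card {g : G // g ∈ K ∧ g ≠ 1} = Nat.card K - 1 := by
    intro K
    rw [Nat.card_eq_fintype_card, Fintype.card_subtype,
      show (Finset.univ.filter fun g : G => g ∈ K ∧ g ≠ 1) =
        (Finset.univ.filter fun g : G => g ∈ K).erase 1 by ext g; simp [and_comm],
      Finset.card_erase_of_mem (by simp), ← Fintype.card_subtype, ← Nat.card_eq_fintype_card]
  obtain ⟨c, hc⟩ := exists_smul_eq G P Q
  rw [hpt]
  have : (M ⊓ (P : Subgroup G)).map (MulAut.conj c).toMonoidHom = M ⊓ (Q : Subgroup G) := by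
    rw [Subgroup.map_inf _ _ _ (MulAut.conj c).injective]
    congr 1
    · exact Subgroup.Normal.map_conj_eq M c
    · rw [← hc]; rfl
  rw [← this]
  exact congrArg (· - 1) (Subgroup.card_map_of_injective (MulAut.conj c).injective)

theorem card_sylows : Nat.card (Sylow p G) = q + 1 := by
  obtain ⟨P⟩ := (inferInstance : Nonempty (Sylow p G))
  have h1 := h.card_inter P ⊤
  rw [top_inf_eq, h.card_sylow] at h1
  have h2 : Nat.card {g : G // g ∈ (⊤ : Subgroup G) ∧ g ^ p = 1 ∧ g ≠ 1} = 4 * (a * b) := by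
    rw [← h.card_pow_p]
    exact Nat.card_congr (Equiv.subtypeEquivRight fun g => by simp)
  have := h.a_pos
  rw [h2, show q - 1 = 2 * a by have := h.qa; omega, show 4 * (a * b) = 2 * b * (2 * a) by ring] at h1
  rw [← Nat.eq_of_mul_eq_mul_right (by omega) h1, h.qa, h.ba]
  ring

theorem card_sylows' (P : Sylow p G) : Nat.card (Sylow p G) = Nat.card P + 1 := by
  rw [h.card_sylows, h.card_sylow]

theorem comm_of_comm (P : Sylow p G) :
    ∀ u ∈ (P : Subgroup G), u ≠ 1 → ∀ g : G, g * u = u * g →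
      ∀ v ∈ (P : Subgroup G), g * v = v * g := by
  intro u hu hu1 g hg v hv
  by_cases hv1 : v = 1
  · simp [hv1]
  have hgP : g ∈ (P : Subgroup G) := by
    rw [← h.centralizer_eq P hu hu1]; exact Subgroup.mem_centralizer_singleton_iff.2 hg
  rw [← h.centralizer_eq P hv hv1] at hgP
  exact Subgroup.mem_centralizer_singleton_iff.1 hgP

theorem fix_only (P : Sylow p G) {u : G} (hu : u ∈ (P : Subgroup G)) (hu1 : u ≠ 1) {Q : Sylow p G}
    (hQ : u • Q = Q) : Q = P :=
  Recog.fix_only P (h.comm_of_comm P) hu hu1 hQ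

theorem smul_self (P : Sylow p G) {u : G} (hu : u ∈ (P : Subgroup G)) : u • P = P :=
  smul_sylow_eq_iff.2 (Subgroup.le_normalizer hu)

theorem exists_other (P : Sylow p G) : ∃ Q : Sylow p G, Q ≠ P := by
  by_contra hne
  push Not at hne
  haveI : Subsingleton (Sylow p G) := ⟨fun x y => (hne x).trans (hne y).symm⟩
  have := Nat.card_of_subsingleton P
  have := h.card_sylows
  have := h.five
  omega

theorem eq_one_of_three {g : G} {A B C : Sylow p G} (hAB : A ≠ B) (hBC : B ≠ C) (hAC : A ≠ C)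
    (hA : g • A = A) (hB : g • B = B) (hC : g • C = C) : g = 1 := by
  obtain ⟨u, hu, huBC⟩ :=
    Recog.exists_smul_other A (h.card_sylows' A) (h.comm_of_comm A) hAB.symm hAC.symm
  have hu1 : u ≠ 1 := fun e => hBC (by rw [← huBC, e, one_smul])
  have hgu : g * u * g⁻¹ ∈ (A : Subgroup G) :=
    (Subgroup.mem_normalizer_iff.1 (smul_sylow_eq_iff.1 hA) u).1 hu
  have heq : g * u * g⁻¹ = u := by
    by_contra hne
    refine hAB (h.fix_only A (mul_mem (inv_mem hu) hgu) (fun e => hne (inv_mul_eq_one.1 e).symm)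
      (Q := B) ?_).symm
    rw [mul_smul, mul_smul, mul_smul, inv_smul_eq_iff.2 hB.symm, huBC, hC, ← huBC, inv_smul_smul]
  have hgA : g ∈ (A : Subgroup G) := by
    rw [← h.centralizer_eq A hu hu1]
    exact Subgroup.mem_centralizer_singleton_iff.2 (mul_inv_eq_iff_eq_mul.1 heq)
  by_contra hg1
  exact hAB (h.fix_only A hgA hg1 hB).symm

theorem faithful : FaithfulSMul G (Sylow p G) := by
  refine ⟨fun {x y} hxy => ?_⟩
  obtain ⟨P⟩ := (inferInstance : Nonempty (Sylow p G))
  obtain ⟨Q, hQ⟩ := h.exists_other P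
  suffices hk : ∀ k : G, (∀ S : Sylow p G, k • S = S) → k = 1 by
    exact inv_mul_eq_one.1 (hk (y⁻¹ * x) fun S => by rw [mul_smul, hxy, inv_smul_smul]) |>.symm
  intro k hk
  obtain ⟨R, hRP, hRQ⟩ : ∃ R : Sylow p G, R ≠ P ∧ R ≠ Q := by
    by_contra hne
    push Not at hne
    classical
    letI := Fintype.ofFinite (Sylow p G)
    have h1 : (Finset.univ : Finset (Sylow p G)) ⊆ {P, Q} := fun R _ => by
      by_cases hR : R = P
      · simp [hR]
      · simp [hne R hR]
    have h2 := Finset.card_le_card h1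
    have := h.card_sylows
    have := h.five
    rw [Finset.card_univ, ← Nat.card_eq_fintype_card] at h2
    have := Finset.card_le_two (a := P) (b := Q)
    omega
  exact h.eq_one_of_three hQ.symm hRQ.symm hRP.symm (hk P) (hk Q) (hk R)

/-- A subgroup normalised by `P`, transitive on the Sylow subgroups, meets `P`. -/
theorem inf_ne_bot (P : Sylow p G) (M : Subgroup G)
    (hn : ∀ u ∈ (P : Subgroup G), ∀ m ∈ M, u * m * u⁻¹ ∈ M)
    (ht : IsPretransitive M (Sylow p G)) : M ⊓ (P : Subgroup G) ≠ ⊥ := by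
  classical
  intro hb
  have hb' : ∀ m ∈ M, m ∈ (P : Subgroup G) → m = 1 := fun m hm hm' =>
    Subgroup.mem_bot.1 (hb ▸ ⟨hm, hm'⟩)
  obtain ⟨u, hu, hu1⟩ : ∃ u ∈ (P : Subgroup G), u ≠ 1 := by
    refine (Subgroup.ne_bot_iff_exists_ne_one (H := (P : Subgroup G))).1 (fun e => ?_) |>.elim
      fun x hx => ⟨x.1, x.2, fun e => hx (Subtype.ext e)⟩
    have := h.card_sylow P
    change Nat.card (P : Subgroup G) = q at this
    rw [e, Subgroup.card_bot] at this
    have := h.five
    omega
  have hcommP : ∀ m ∈ M, ∀ v ∈ (P : Subgroup G), v ≠ 1 → Commute m v → m = 1 := fun m hm v hv hv1 hc =>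
    hb' m hm (h.centralizer_eq P hv hv1 ▸ Subgroup.mem_centralizer_singleton_iff.2 hc.eq)
  have hbij : Function.Bijective fun m : M => (m : G) • P := by
    refine ⟨fun m n e => ?_, fun Q => ?_⟩
    · set k : G := (m : G)⁻¹ * n with hk
      have hkM : k ∈ M := mul_mem (inv_mem m.2) n.2
      have hkP : k • P = P := by
        rw [hk, mul_smul]; exact inv_smul_eq_iff.2 e.symm
      have h1 : k * u * k⁻¹ * u⁻¹ = 1 := by
        refine hb' _ ?_ (mul_mem ((Subgroup.mem_normalizer_iff.1 (smul_sylow_eq_iff.1 hkP) u).1 hu)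
          (inv_mem hu))
        rw [show k * u * k⁻¹ * u⁻¹ = k * (u * k⁻¹ * u⁻¹) by group]
        exact mul_mem hkM (hn u hu _ (inv_mem hkM))
      exact Subtype.ext (inv_mul_eq_one.1
        (hcommP k hkM u hu hu1 (mul_inv_eq_iff_eq_mul.1 (mul_inv_eq_one.1 h1))))
    · obtain ⟨m, hm⟩ := ht.exists_smul_eq P Q
      exact ⟨m, hm⟩
  have hM : Nat.card M = q + 1 := by rw [Nat.card_eq_of_bijective _ hbij, h.card_sylows]
  have hinv : ∀ k ∈ (P : Subgroup G), ∀ x : G, (x ∈ M ∧ x ≠ 1) → (k * x * k⁻¹ ∈ M ∧ k * x * k⁻¹ ≠ 1) :=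
    fun k hk x hx => ⟨hn k hk x hx.1, by rw [Ne, conj_eq_one_iff]; exact hx.2⟩
  letI := Spec.conjAction (P : Subgroup G) (fun x => x ∈ M ∧ x ≠ 1) hinv
  have hcardM : Nat.card {x : G // x ∈ M ∧ x ≠ 1} = q := by
    letI := Fintype.ofFinite G
    rw [Nat.card_eq_fintype_card, Fintype.card_subtype,
      show (Finset.univ.filter fun g : G => g ∈ M ∧ g ≠ 1) =
        (Finset.univ.filter fun g : G => g ∈ M).erase 1 by ext g; simp [and_comm],
      Finset.card_erase_of_mem (by simp), ← Fintype.card_subtype, ← Nat.card_eq_fintype_card]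
    change Nat.card M - 1 = q
    omega
  have hevenM : 2 ∣ Nat.card M := hM ▸ ⟨b, by rw [h.qa, h.ba]; ring⟩
  haveI : Fact (Nat.Prime 2) := ⟨Nat.prime_two⟩
  obtain ⟨t, ht2⟩ := exists_prime_orderOf_dvd_card' 2 hevenM
  set x : {x : G // x ∈ M ∧ x ≠ 1} := ⟨t, t.2, fun e => by
    rw [← Subgroup.orderOf_coe, e, orderOf_one] at ht2; omega⟩ with hx
  have horb : Nat.card (orbit (P : Subgroup G) x) = Nat.card {x : G // x ∈ M ∧ x ≠ 1} := by
    rw [hcardM, Nat.card_coe_set_eq, ← index_stabilizer]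
    have : stabilizer (P : Subgroup G) x = ⊥ := by
      refine (Subgroup.eq_bot_iff_forall _).2 fun k hk => ?_
      by_contra hk1
      have hk' : (k : G) * x.1 * (k : G)⁻¹ = x.1 := congrArg Subtype.val (mem_stabilizer_iff.1 hk)
      exact x.2.2 (hcommP x.1 x.2.1 k k.2 (fun e => hk1 (Subtype.ext e))
        (mul_inv_eq_iff_eq_mul.1 hk').symm)
    rw [this, Subgroup.index_bot]
    exact h.card_sylow P
  have hall : ∀ m ∈ M, m ^ 2 = 1 := by
    intro m hm
    by_cases hm1 : m = 1
    · simp [hm1]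
    have huniv : orbit (P : Subgroup G) x = Set.univ :=
      Set.eq_of_subset_of_ncard_le (Set.subset_univ _)
        (by rw [Set.ncard_univ, ← horb, Nat.card_coe_set_eq]) (Set.toFinite _)
    obtain ⟨k, hk⟩ := (huniv ▸ Set.mem_univ (⟨m, hm, hm1⟩ : {x : G // x ∈ M ∧ x ≠ 1}) :
      (⟨m, hm, hm1⟩ : {x : G // x ∈ M ∧ x ≠ 1}) ∈ orbit (P : Subgroup G) x)
    have hk' : (k : G) * t * (k : G)⁻¹ = m := congrArg Subtype.val hk
    rw [← hk', conj_pow, show ((t : M) : G) ^ 2 = 1 by
      rw [← ht2, ← Subgroup.orderOf_coe]; exact pow_orderOf_eq_one _]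
    group
  obtain ⟨i, hi⟩ := (show IsPGroup 2 M from fun m => ⟨1, Subtype.ext (by simpa using hall m m.2)⟩).exists_card_eq
  rw [hi] at hM
  have hb2 : 2 * b = 2 ^ i := by rw [hM, h.qa, h.ba]; ring
  have hi2 : 2 ≤ i := by
    by_contra hlt
    have : 2 ^ i ≤ 2 ^ 1 := Nat.pow_le_pow_right two_pos (by omega)
    have := h.a_pos
    have := h.ba
    omega
  obtain ⟨j, rfl⟩ : ∃ j, i = j + 2 := ⟨i - 2, by omega⟩
  have hbpow : b = 2 ^ (j + 1) := by rw [pow_succ] at hb2; omega
  have haodd : ¬ 2 ∣ a := fun e => by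
    have h1 : 2 ∣ b := hbpow ▸ dvd_pow_self 2 (Nat.succ_ne_zero j)
    rw [h.ba] at h1
    omega
  have hcard : Nat.card G = 2 ^ (j + 2) * (q * a) := by rw [h.card, ← hb2]; ring
  have hnd : ¬ 2 ∣ q * a := by
    rw [Nat.prime_two.dvd_mul]
    rintro (e | e)
    · have := h.qa; omega
    · exact haodd e
  obtain ⟨S₀, hS₀⟩ := (IsPGroup.of_card hi : IsPGroup 2 M).exists_le_sylow
  have hS₀M : (S₀ : Subgroup G) = M := (Subgroup.eq_of_le_of_card_ge hS₀
    (by rw [card_sylow_subgroup hcard hnd S₀, hi])).symm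
  obtain ⟨z, hz⟩ := h.exists_b
  obtain ⟨S, hS⟩ := (IsPGroup.of_card (n := j + 1) (by rw [Nat.card_zpowers, hz, hbpow]) :
    IsPGroup 2 (Subgroup.zpowers z)).exists_le_sylow
  obtain ⟨g, hg⟩ := exists_smul_eq G S₀ S
  have hzS : z ∈ ((g • S₀ : Sylow 2 G) : Subgroup G) := hg ▸ hS (Subgroup.mem_zpowers z)
  rw [Sylow.coe_subgroup_smul, Subgroup.mem_pointwise_smul_iff_inv_smul_mem, hS₀M] at hzS
  have hz2 := hall _ hzS
  rw [MulAut.smul_def, ← map_pow, map_eq_one_iff _ (MulEquiv.injective _)] at hz2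
  have := Nat.le_of_dvd two_pos (hz ▸ orderOf_dvd_of_pow_eq_one hz2)
  have := h.a_pos
  have := h.ba
  omega

theorem transitive_of_normal (P : Sylow p G) {M : Subgroup G} [M.Normal] (hM : M ≠ ⊥) :
    IsPretransitive M (Sylow p G) :=
  haveI := h.faithful
  Perm.Zass.normal_transitive
    (Recog.two_pretransitive P (h.card_sylows' P) (h.comm_of_comm P)) M hM

theorem le_of_normal (P : Sylow p G) {M : Subgroup G} [M.Normal] (hM : M ≠ ⊥) :
    (P : Subgroup G) ≤ M := by
  classical
  have hne := h.inf_ne_bot P M (fun u _ m hm => Subgroup.Normal.conj_mem ‹_› m hm u)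
    (h.transitive_of_normal P hM)
  have hinv : ∀ k ∈ (⊤ : Subgroup G), ∀ x : G, (x ∈ M ∧ x ^ p = 1 ∧ x ≠ 1) →
      (k * x * k⁻¹ ∈ M ∧ (k * x * k⁻¹) ^ p = 1 ∧ k * x * k⁻¹ ≠ 1) := by
    intro k _ x hx
    refine ⟨Subgroup.Normal.conj_mem ‹_› x hx.1 k, ?_⟩
    rw [conj_pow, conj_eq_one_iff, Ne, conj_eq_one_iff]
    exact hx.2
  letI := Spec.conjAction (⊤ : Subgroup G) (fun x => x ∈ M ∧ x ^ p = 1 ∧ x ≠ 1) hinv
  have hdvd : 2 * (a * b) ∣ Nat.card {g : G // g ∈ M ∧ g ^ p = 1 ∧ g ≠ 1} := by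
    refine Spec.dvd_card_of_dvd_index (K := (⊤ : Subgroup G)) fun x => ?_
    set K := stabilizer (⊤ : Subgroup G) x with hK
    have hKC : Nat.card K = Nat.card (Subgroup.centralizer ({x.1} : Set G)) := Nat.card_congr
      { toFun := fun k => ⟨((k : (⊤ : Subgroup G)) : G), Spec.mem_centralizer_iff_conj.2
          (congrArg Subtype.val (mem_stabilizer_iff.1 k.2))⟩
        invFun := fun g => ⟨⟨g, trivial⟩, mem_stabilizer_iff.2
          (Subtype.ext (Spec.mem_centralizer_iff_conj.1 g.2))⟩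
        left_inv := fun _ => rfl
        right_inv := fun _ => rfl }
    have e1 := K.card_mul_index
    rw [hKC, h.card_centralizer x.2.2.1 x.2.2.2, Subgroup.card_top, h.card'] at e1
    rw [Nat.eq_of_mul_eq_mul_left (by have := h.five; omega) e1]
  rw [h.card_inter P M, h.card_sylows] at hdvd
  have hle : M ⊓ (P : Subgroup G) ≤ P := inf_le_right
  obtain ⟨i, hi⟩ := (P.isPGroup'.to_le hle).exists_card_eq
  have hiq : p ^ i ≤ q := by
    rw [← hi, ← h.card_sylow P]
    exact Nat.le_of_dvd Nat.card_pos (Subgroup.card_dvd_of_le hle)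
  rw [hi, show q + 1 = 2 * b by rw [h.qa, h.ba]; ring, show 2 * (a * b) = 2 * b * a by ring] at hdvd
  have hb0 : 0 < 2 * b := by have := h.ba; omega
  obtain ⟨k, hk⟩ := Nat.dvd_of_mul_dvd_mul_left hb0 hdvd
  have hi0 : i ≠ 0 := fun e => hne (Subgroup.card_eq_one.1 (by rw [hi, e, pow_zero]))
  have h1lt : 1 < p ^ i := Nat.one_lt_pow hi0 hp.out.one_lt
  have hk3 : k < 3 := by
    by_contra hlt
    have : a * 3 ≤ a * k := Nat.mul_le_mul_left a (by omega)
    have := h.qa
    have := h.a_pos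
    omega
  interval_cases k
  · omega
  · exact absurd (by rw [h.ba]; exact (show p ^ i = a + 1 by omega) ▸ dvd_pow_self p hi0) h.not_dvd_b
  · have heq : M ⊓ (P : Subgroup G) = P := Subgroup.eq_of_le_of_card_ge hle (by
      rw [hi, h.card_sylow, h.qa]; omega)
    exact heq ▸ inf_le_left

/-- `G ≅ PSL_2 (q)`. -/
theorem nonempty_mulEquiv {F : Type u} [Field F] [Fintype F] (hF : Fintype.card F = q) :
    Nonempty (G ≃* PSL(2, F)) := by
  classical
  letI := Fintype.ofFinite G
  letI := Fintype.ofFinite (Sylow p G)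
  obtain ⟨P⟩ := (inferInstance : Nonempty (Sylow p G))
  obtain ⟨Q, hQ⟩ := h.exists_other P
  have hP1 : ∃ u ∈ (P : Subgroup G), u ≠ 1 := by
    refine (Subgroup.ne_bot_iff_exists_ne_one (H := (P : Subgroup G))).1 (fun e => ?_) |>.elim
      fun x hx => ⟨x.1, x.2, fun e => hx (Subtype.ext e)⟩
    have := h.card_sylow P
    change Nat.card (P : Subgroup G) = q at this
    rw [e, Subgroup.card_bot] at this
    have := h.five
    omega
  set T : Subgroup G := Subgroup.closure {g : G | g ^ p = 1} with hT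
  have hPT : ∀ S : Sylow p G, (S : Subgroup G) ≤ T := fun S g hg =>
    Subgroup.subset_closure (h.pow_p_of_mem S.isPGroup' hg)
  haveI hTn : T.Normal := by
    refine Subgroup.normalizer_eq_top_iff.1 (eq_top_iff.2 fun c _ => ?_)
    refine Subgroup.mem_normalizer_iff_map_conj_eq.2 ?_
    rw [hT, MonoidHom.map_closure]
    congr 1
    ext g
    constructor
    · rintro ⟨x, hx, rfl⟩
      show (MulAut.conj c x) ^ p = 1
      rw [← map_pow, show x ^ p = 1 from hx, map_one]
    · intro hg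
      refine ⟨(MulAut.conj c).symm g, ?_, (MulAut.conj c).apply_symm_apply g⟩
      show ((MulAut.conj c).symm g) ^ p = 1
      rw [← map_pow, show g ^ p = 1 from hg, map_one]
  have hmin : ∀ M : Subgroup G, M.Normal → M ≠ ⊥ → T ≤ M := by
    intro M hMn hM
    refine (Subgroup.closure_le _).2 fun g hg => ?_
    by_cases hg1 : g = 1
    · rw [hg1]; exact one_mem _
    obtain ⟨S, hS⟩ := (IsPGroup.of_card (n := 1)
      (by rw [Nat.card_zpowers, orderOf_eq_prime hg hg1, pow_one]) :
        IsPGroup p (Subgroup.zpowers g)).exists_le_sylow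
    haveI := hMn
    exact h.le_of_normal S hM (hS (Subgroup.mem_zpowers g))
  haveI hfG := h.faithful
  haveI hfT : FaithfulSMul T (Sylow p G) := ⟨fun {x y} hxy => Subtype.ext
    (FaithfulSMul.eq_of_smul_eq_smul (α := Sylow p G) fun S => hxy S)⟩
  have hT1 : T ≠ ⊥ := fun e => by
    obtain ⟨u, hu, hu1⟩ := hP1
    exact hu1 (Subgroup.mem_bot.1 (e ▸ hPT P hu))
  haveI hTt : IsPretransitive T (Sylow p G) := h.transitive_of_normal P hT1
  have hT2 : IsMultiplyPretransitive T (Sylow p G) 2 := by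
    rw [MulAction.is_two_pretransitive_iff]
    intro A B C D hAB hCD
    obtain ⟨g, rfl⟩ := exists_smul_eq T A C
    obtain ⟨u, hu, hub⟩ := Recog.exists_smul_other (g • A) (h.card_sylows' _) (h.comm_of_comm _)
      (R := D) (show g • B ≠ g • A from fun e => hAB (smul_left_cancel g e).symm) hCD.symm
    refine ⟨⟨u, hPT _ hu⟩ * g, ?_, ?_⟩
    · rw [mul_smul]; exact h.smul_self _ hu
    · rw [mul_smul]; exact hub
  -- simplicity of `T`
  haveI : Nontrivial T := (Subgroup.nontrivial_iff_ne_bot T).2 hT1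
  haveI hsimple : IsSimpleGroup T := by
    refine ⟨fun N hN => or_iff_not_imp_left.2 fun hN1 => ?_⟩
    obtain ⟨M, ⟨hMN, hM1, hMnorm⟩, hMmin⟩ := (wellFounded_lt (α := Subgroup G)).has_min
      {M : Subgroup G | M ≤ N.map T.subtype ∧ M ≠ ⊥ ∧ T ≤ Subgroup.normalizer (M : Set G)}
      ⟨N.map T.subtype, le_rfl,
        fun e => hN1 ((Subgroup.map_eq_bot_iff_of_injective _ Subtype.coe_injective).1 e), fun c hc => by
          rw [Subgroup.mem_normalizer_iff]
          intro x
          constructor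
          · rintro ⟨y, hy, rfl⟩
            exact ⟨⟨c, hc⟩ * y * ⟨c, hc⟩⁻¹, hN.conj_mem y hy _, rfl⟩
          · rintro ⟨y, hy, e⟩
            refine ⟨⟨c, hc⟩⁻¹ * y * ⟨c, hc⟩, hN.conj_mem' y hy _, ?_⟩
            show c⁻¹ * (y : G) * c = x
            rw [show (y : G) = c * x * c⁻¹ from e]; group⟩
    have hMT : M ≤ T := hMN.trans (Subgroup.map_subtype_le N)
    have htrans : ∀ g : G, IsPretransitive (M.map (MulAut.conj g).toMonoidHom) (Sylow p G) := by
      intro g
      haveI hn' : (M.subgroupOf T).Normal := ⟨fun x hx c => by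
        rw [Subgroup.mem_subgroupOf] at hx ⊢
        exact (Subgroup.mem_normalizer_iff.1 (hMnorm c.2) x).1 hx⟩
      have hne : M.subgroupOf T ≠ ⊥ := fun e => hM1 (by
        have := Subgroup.map_subgroupOf_eq_of_le hMT
        rw [e, Subgroup.map_bot] at this
        exact this.symm)
      have hMt := Perm.Zass.normal_transitive hT2 (M.subgroupOf T) hne
      refine ⟨fun A B => ?_⟩
      obtain ⟨⟨⟨m, hmT⟩, hm⟩, hmAB⟩ := hMt.exists_smul_eq (g⁻¹ • A) (g⁻¹ • B)
      refine ⟨⟨g * m * g⁻¹, m, hm, rfl⟩, ?_⟩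
      show (g * m * g⁻¹) • A = B
      rw [mul_smul, mul_smul]
      rw [show m • g⁻¹ • A = g⁻¹ • B from hmAB, smul_inv_smul]
    have hMM : ∀ g : G, ∀ m ∈ M, g * m * g⁻¹ ∈ M := by
      intro g
      set M' := M.map (MulAut.conj g).toMonoidHom with hM'
      have hM'norm : T ≤ Subgroup.normalizer (M' : Set G) := by
        intro c hc
        have hc' : g⁻¹ * c * g ∈ T := by simpa using hTn.conj_mem c hc g⁻¹
        rw [Subgroup.mem_normalizer_iff_map_conj_eq, hM', Subgroup.map_map]
        conv_rhs => rw [← Subgroup.mem_normalizer_iff_map_conj_eq.1 (hMnorm hc'), Subgroup.map_map]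
        congr 1
        ext x
        show c * (g * x * g⁻¹) * c⁻¹ = g * ((g⁻¹ * c * g) * x * (g⁻¹ * c * g)⁻¹) * g⁻¹
        group
      by_cases hint : M ⊓ M' = ⊥
      · exfalso
        obtain ⟨⟨u, huM, huP⟩, hu1⟩ := Subgroup.ne_bot_iff_exists_ne_one.1 (h.inf_ne_bot P M
          (fun u hu m hm => (Subgroup.mem_normalizer_iff.1 (hMnorm (hPT P hu)) m).1 hm)
          (by
            have h1 : M.map (MulAut.conj (1 : G)).toMonoidHom = M := by ext; simp
            exact h1 ▸ htrans 1))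
        have hu1' : u ≠ 1 := fun e => hu1 (Subtype.ext e)
        obtain ⟨⟨m, hm⟩, hmPQ⟩ := (htrans g).exists_smul_eq P Q
        have hmM' : m ∈ M' := hm
        have hmu : m * u = u * m := by
          have hmT : m ∈ T := by
            obtain ⟨x, hx, rfl⟩ := hm
            exact hTn.conj_mem x (hMT hx) g
          have h1 : m * u * m⁻¹ * u⁻¹ ∈ M :=
            mul_mem ((Subgroup.mem_normalizer_iff.1 (hMnorm hmT) u).1 huM) (inv_mem huM)
          have h2 : m * u * m⁻¹ * u⁻¹ ∈ M' := by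
            rw [show m * u * m⁻¹ * u⁻¹ = m * (u * m⁻¹ * u⁻¹) by group]
            exact mul_mem hmM'
              ((Subgroup.mem_normalizer_iff.1 (hM'norm (hMT huM)) m⁻¹).1 (inv_mem hmM'))
          have h3 : m * u * m⁻¹ * u⁻¹ = 1 := Subgroup.mem_bot.1 (hint ▸ ⟨h1, h2⟩)
          exact mul_inv_eq_iff_eq_mul.1 (mul_inv_eq_one.1 h3)
        have hmP : m ∈ (P : Subgroup G) :=
          h.centralizer_eq P huP hu1' ▸ Subgroup.mem_centralizer_singleton_iff.2 hmu
        exact hQ (hmPQ.symm.trans (h.smul_self P hmP))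
      · have hle : M ≤ M' := by
          by_contra hne
          exact hMmin _ ⟨inf_le_left.trans hMN, hint, fun c hc => by
            rw [Subgroup.mem_normalizer_iff]
            intro x
            rw [Subgroup.mem_inf, Subgroup.mem_inf, Subgroup.mem_normalizer_iff.1 (hMnorm hc),
              Subgroup.mem_normalizer_iff.1 (hM'norm hc)]⟩
            (lt_of_le_of_ne inf_le_left fun e => hne (inf_eq_left.1 e))
        have heq : M = M' := Subgroup.eq_of_le_of_card_ge hle
          (Subgroup.card_map_of_injective (MulAut.conj g).injective).le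
        exact fun m hm => heq ▸ ⟨m, hm, rfl⟩
    have hTM := hmin M ⟨fun m hm g => hMM g m hm⟩ hM1
    refine eq_top_iff.2 fun x _ => ?_
    obtain ⟨y, hy, e⟩ := hMN (hTM x.2)
    rwa [show x = y from Subtype.ext e.symm]
  -- stabilisers
  obtain ⟨e, he⟩ : ∃ e, e = Nat.card ↥(stabilizer T P ⊓ stabilizer T Q) := ⟨_, rfl⟩
  have hΩ : Fintype.card (Sylow p G) = q + 1 := by rw [← Nat.card_eq_fintype_card, h.card_sylows]
  have hTcard : Nat.card T = (q + 1) * (q * e) := by
    have horb : orbit (stabilizer T P) Q = {S | S ≠ P} := by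
      ext S
      constructor
      · rintro ⟨k, rfl⟩ hS
        exact hQ (smul_left_cancel (k : T) (hS.trans (mem_stabilizer_iff.1 k.2).symm))
      · intro hS
        obtain ⟨u, hu, huS⟩ :=
          Recog.exists_smul_other P (h.card_sylows' P) (h.comm_of_comm P) hQ hS
        exact ⟨⟨⟨u, hPT P hu⟩, h.smul_self P hu⟩, huS⟩
    have e2 := (stabilizer (stabilizer T P) Q).card_mul_index
    rw [index_stabilizer, horb, Set.ncard_eq_toFinset_card'] at e2
    simp only [Set.toFinset_setOf, Finset.filter_ne', Finset.card_erase_of_mem (Finset.mem_univ P),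
      Finset.card_univ, hΩ, Nat.add_sub_cancel] at e2
    have e3 : Nat.card (stabilizer (stabilizer T P) Q) = e := by
      rw [he]
      exact Nat.card_congr
        { toFun := fun x => ⟨x.1.1, x.1.2, x.2⟩
          invFun := fun x => ⟨⟨x.1, x.2.1⟩, x.2.2⟩
          left_inv := fun _ => rfl
          right_inv := fun _ => rfl }
    have e1 := (stabilizer T P).card_mul_index
    rw [index_stabilizer_of_transitive T P, h.card_sylows, ← e2, e3] at e1
    rw [← e1]; ring
  obtain ⟨v, hvP, hv1⟩ := hP1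
  have he2 : 2 ≤ e := by
    by_contra hlt
    have he0 : 0 < e := he ▸ Nat.card_pos
    obtain rfl : e = 1 := by omega
    rw [mul_one] at hTcard
    have hinv : ∀ k ∈ (P : Subgroup G), ∀ x : G, (x ∈ T ∧ ¬ x ^ p = 1) →
        (k * x * k⁻¹ ∈ T ∧ ¬ (k * x * k⁻¹) ^ p = 1) := by
      intro k _ x hx
      refine ⟨hTn.conj_mem x hx.1 k, fun e => ?_⟩
      rw [conj_pow, conj_eq_one_iff] at e
      exact hx.2 e
    letI := Spec.conjAction (P : Subgroup G) (fun x => x ∈ T ∧ ¬ x ^ p = 1) hinv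
    have hsize : Nat.card {x : G // x ∈ T ∧ ¬ x ^ p = 1} = q := by
      have h1 : Nat.card {x : G // x ∈ T ∧ x ^ p = 1} = q ^ 2 := by
        rw [Nat.card_congr (Equiv.subtypeEquivRight (p := fun x : G => x ∈ T ∧ x ^ p = 1)
          (q := fun x : G => x ^ p = 1)
          fun x => ⟨And.right, fun hx => ⟨Subgroup.subset_closure hx, hx⟩⟩), h.q_sq, ← h.card_pow_p,
          Nat.card_eq_fintype_card, Nat.card_eq_fintype_card, Fintype.card_subtype, Fintype.card_subtype,
          show (Finset.univ.filter fun x : G => x ^ p = 1 ∧ x ≠ 1) =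
            (Finset.univ.filter fun x : G => x ^ p = 1).erase 1 by ext x; simp [and_comm]]
        rw [Finset.card_erase_add_one (by simp)]
      have h2 := Finset.card_filter_add_card_filter_not
        (s := (Finset.univ.filter fun x : G => x ∈ T)) (fun x => x ^ p = 1)
      rw [Finset.filter_filter, Finset.filter_filter, ← Fintype.card_subtype, ← Fintype.card_subtype,
        ← Fintype.card_subtype, ← Nat.card_eq_fintype_card, ← Nat.card_eq_fintype_card,
        ← Nat.card_eq_fintype_card, h1] at h2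
      change q ^ 2 + Nat.card {x : G // x ∈ T ∧ ¬ x ^ p = 1} = Nat.card T at h2
      rw [hTcard] at h2
      nlinarith
    have hinvol : ∀ x ∈ T, ¬ x ^ p = 1 → x ^ 2 = 1 := by
      haveI : Fact (Nat.Prime 2) := ⟨Nat.prime_two⟩
      obtain ⟨t, ht⟩ := exists_prime_orderOf_dvd_card' 2 (G := T) (by
        rw [hTcard, h.qa]; exact (show 2 ∣ 2 * a + 1 + 1 by omega).mul_right _)
      have htp : ¬ ((t : G) ^ p = 1) := fun e => h.odd (by
        have := orderOf_dvd_of_pow_eq_one e
        rw [Subgroup.orderOf_coe, ht] at this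
        exact ((Nat.prime_dvd_prime_iff_eq Nat.prime_two hp.out).1 this).symm)
      set x₀ : {x : G // x ∈ T ∧ ¬ x ^ p = 1} := ⟨t, t.2, htp⟩
      have hstab : stabilizer (P : Subgroup G) x₀ = ⊥ := by
        refine (Subgroup.eq_bot_iff_forall _).2 fun k hk => ?_
        by_contra hk1
        have hk' : (k : G) * t * (k : G)⁻¹ = t := congrArg Subtype.val (mem_stabilizer_iff.1 hk)
        exact htp (h.pow_p_of_comm (h.pow_p_of_mem P.isPGroup' k.2) (fun e => hk1 (Subtype.ext e))
          (mul_inv_eq_iff_eq_mul.1 hk').symm)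
      have huniv : orbit (P : Subgroup G) x₀ = Set.univ :=
        Set.eq_of_subset_of_ncard_le (Set.subset_univ _)
          (by
            rw [Set.ncard_univ, hsize, ← index_stabilizer, hstab, Subgroup.index_bot]
            exact (h.card_sylow P).ge) (Set.toFinite _)
      intro x hx hxp
      obtain ⟨k, hk⟩ := (huniv ▸ Set.mem_univ (⟨x, hx, hxp⟩ : {x : G // x ∈ T ∧ ¬ x ^ p = 1}) :
        (⟨x, hx, hxp⟩ : {x : G // x ∈ T ∧ ¬ x ^ p = 1}) ∈ orbit (P : Subgroup G) x₀)
      have hk' : (k : G) * t * (k : G)⁻¹ = x := congrArg Subtype.val hk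
      rw [← hk', conj_pow, show ((t : T) : G) ^ 2 = 1 by
        rw [← ht, ← Subgroup.orderOf_coe]; exact pow_orderOf_eq_one _]
      group
    haveI : Fact (Nat.Prime 2) := ⟨Nat.prime_two⟩
    obtain ⟨i, M', hM', hq1⟩ := Nat.exists_eq_pow_mul_and_not_dvd (n := q + 1) (by omega) 2 (by norm_num)
    have hM1 : M' = 1 := by
      by_contra hne
      obtain ⟨r, hr, hrM⟩ := Nat.exists_prime_and_dvd hne
      haveI := Fact.mk hr
      obtain ⟨x, hx⟩ := exists_prime_orderOf_dvd_card' r (G := T) (by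
        rw [hTcard, hq1]; exact (hrM.mul_left _).mul_right _)
      have hr2 : r ≠ 2 := fun e => hM' (e ▸ hrM)
      have hrp : r ≠ p := by
        rintro rfl
        have : r ∣ q + 1 := hq1 ▸ hrM.mul_left _
        exact hr.not_dvd_one ((Nat.dvd_add_right h.p_dvd_q).1 this)
      have hxp : ¬ ((x : G) ^ p = 1) := fun e => hrp (by
        have := orderOf_dvd_of_pow_eq_one e
        rw [Subgroup.orderOf_coe, hx] at this
        exact (Nat.prime_dvd_prime_iff_eq hr hp.out).1 this)
      have := orderOf_dvd_of_pow_eq_one (hinvol _ x.2 hxp)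
      rw [Subgroup.orderOf_coe, hx] at this
      exact hr2 ((Nat.prime_dvd_prime_iff_eq hr Nat.prime_two).1 this)
    rw [hM1, mul_one] at hq1
    have hTpow : Nat.card T = 2 ^ i * q := by rw [hTcard, hq1]
    have hq2 : ¬ 2 ∣ q := by have := h.qa; omega
    have hS : ∀ S : Sylow 2 T, ∀ x : T, x ∈ (S : Subgroup T) ↔ x = 1 ∨ ¬ (x : G) ^ p = 1 := by
      intro S
      have hcS : Nat.card (S : Subgroup T) = q + 1 := by
        rw [card_sylow_subgroup hTpow hq2 S, hq1]
      have hsub : ((S : Subgroup T) : Set T) ⊆ {x | x = 1 ∨ ¬ (x : G) ^ p = 1} := by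
        intro x hx
        by_contra hne
        simp only [Set.mem_setOf_eq, not_or, not_not] at hne
        obtain ⟨n, hn⟩ := S.isPGroup' ⟨x, hx⟩
        have h1 : orderOf x ∣ 2 ^ n :=
          orderOf_dvd_of_pow_eq_one (by simpa using congrArg Subtype.val hn)
        have h2 : orderOf x ∣ p := orderOf_dvd_of_pow_eq_one (Subtype.ext (by simpa using hne.2))
        have h3 := Nat.dvd_gcd h1 h2
        rw [(Nat.Coprime.pow_left n ((Nat.coprime_primes Nat.prime_two hp.out).2 h.odd.symm)).gcd_eq_one,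
          Nat.dvd_one, orderOf_eq_one_iff] at h3
        exact hne.1 h3
      have heq := Set.eq_of_subset_of_ncard_le hsub (by
        rw [← Nat.card_coe_set_eq ((S : Subgroup T) : Set T)]
        change _ ≤ Nat.card (S : Subgroup T)
        rw [hcS, ← Nat.card_coe_set_eq]
        refine le_trans (Nat.card_le_card_of_injective
          (β := Option {x : G // x ∈ T ∧ ¬ x ^ p = 1})
          (fun x => if hx : ((x : T) : G) ^ p = 1 then none else some ⟨(x : T), (x : T).2, hx⟩) ?_) ?_
        · rintro ⟨x, hx⟩ ⟨y, hy⟩ e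
          by_cases h1 : (x : G) ^ p = 1 <;> by_cases h2 : (y : G) ^ p = 1 <;> simp [h1, h2] at e
          · rcases hx with rfl | hx
            · rcases hy with rfl | hy
              · rfl
              · exact absurd h2 hy
            · exact absurd h1 hx
          · subst e; rfl
        · rw [Finite.card_option, hsize]) (Set.toFinite _)
      intro x
      exact Set.ext_iff.1 heq x
    haveI : Subsingleton (Sylow 2 T) := ⟨fun S S' => Sylow.ext (SetLike.ext fun x =>
      (hS S x).trans (hS S' x).symm)⟩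
    obtain ⟨S⟩ := (inferInstance : Nonempty (Sylow 2 T))
    have hcS := card_sylow_subgroup hTpow hq2 S
    rcases (S.normal_of_subsingleton).eq_bot_or_eq_top with hb | ht
    · rw [hb, Subgroup.card_bot] at hcS; omega
    · rw [ht, Subgroup.card_top, hTcard, hq1] at hcS
      have := Nat.eq_of_mul_eq_mul_left (pow_pos two_pos i) (hcS.trans (mul_one _).symm)
      have := h.five
      omega
  have h3T : ∀ g : T, ∀ A B C : Sylow p G, A ≠ B → B ≠ C → A ≠ C →
      g • A = A → g • B = B → g • C = C → g = 1 :=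
    fun g A B C hAB hBC hAC hA hB hC => Subtype.ext (h.eq_one_of_three hAB hBC hAC hA hB hC)
  have hZ : Cfsg.IsZassenhausGroup T (Sylow p G) := by
    refine ⟨hfT, hT2, h3T, ?_, fun N hN hNt => ⟨P, fun hb => ?_⟩⟩
    · haveI : Nontrivial ↥(stabilizer T P ⊓ stabilizer T Q) := by
        rw [← Finite.one_lt_card_iff_nontrivial, ← he]; omega
      obtain ⟨g, hg⟩ := exists_ne (1 : ↥(stabilizer T P ⊓ stabilizer T Q))
      exact ⟨g, fun e => hg (Subtype.ext e), P, Q, hQ.symm, g.2.1, g.2.2⟩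
    · rcases hN.eq_bot_or_eq_top with rfl | rfl
      · obtain ⟨x, hx⟩ := hNt.exists_smul_eq P Q
        rw [Subsingleton.elim x 1, one_smul] at hx
        exact hQ hx.symm
      · have hmem : (⟨⟨v, hPT P hvP⟩, trivial⟩ : (⊤ : Subgroup T)) ∈ stabilizer _ P :=
          h.smul_self P hvP
        rw [hb, Subgroup.mem_bot] at hmem
        exact hv1 (congrArg (fun x : (⊤ : Subgroup T) => ((x : T) : G)) hmem)
  set H := (P : Subgroup G).subgroupOf T with hH
  have hHa : H ≤ stabilizer T P := fun x hx => h.smul_self P hx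
  have hHc : Nat.card H = q := by
    rw [Nat.card_congr (Subgroup.subgroupOfEquivOfLe (hPT P)).toEquiv]
    exact h.card_sylow P
  have hHcard : Nat.card H + 1 = Fintype.card (Sylow p G) := by rw [hΩ, hHc]
  have hHfix : ∀ x ∈ H, x ≠ 1 → ∀ S : Sylow p G, x • S = S → S = P :=
    fun x hx hx1 S hS => h.fix_only P hx (fun e => hx1 (Subtype.ext e)) hS
  have hq := h.qa
  have hea : e = a := by
    obtain ⟨k, hk⟩ : e ∣ Fintype.card (Sylow p G) - 2 :=
      he ▸ Perm.ZassEven.card_stab_dvd hZ hQ.symm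
    rw [hΩ, show q + 1 - 2 = 2 * a by omega] at hk
    rcases Nat.even_or_odd e with hev | hod
    · have hne := Perm.ZassEven.card_stab_ne hZ hQ.symm (he ▸ hev)
      have hle := Perm.Zass.degree_le_of_even hZ hQ.symm (he ▸ hev)
      rw [← he, hΩ] at hne hle
      rcases k with _ | _ | _ | k
      · simp at hk; have := h.a_pos; omega
      · omega
      · omega
      · have : e * 3 ≤ e * (k + 1 + 1 + 1) := Nat.mul_le_mul_left e (by omega)
        omega
    · rcases ZassenhausFeit.inequality hZ hQ.symm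
        (show Odd (Nat.card ↥(stabilizer T P ⊓ stabilizer T Q)) from he ▸ hod) hHa hHcard hHfix with
        hle | ⟨h2, -⟩
      · change Fintype.card (Sylow p G) - 2 ≤ 2 * Nat.card ↥(stabilizer T P ⊓ stabilizer T Q) at hle
        rw [← he, hΩ] at hle
        rcases k with _ | _ | _ | k
        · simp at hk; have := h.a_pos; omega
        · obtain ⟨j, hj⟩ := hod; omega
        · omega
        · have : e * 3 ≤ e * (k + 1 + 1 + 1) := Nat.mul_le_mul_left e (by omega)
          omega
      · obtain ⟨n, hn⟩ := h2.exists_card_eq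
        rw [hHc] at hn
        rcases n with _ | n
        · have := h.five; rw [pow_zero] at hn; omega
        · rw [pow_succ] at hn; omega
  have hTtop : T = ⊤ := Subgroup.eq_top_of_card_eq T (by
    rw [hTcard, hea, h.card, h.qa, h.ba]; ring)
  haveI : IsSimpleGroup G := by
    haveI : IsSimpleGroup (⊤ : Subgroup G) := hTtop ▸ hsimple
    exact (MulEquiv.isSimpleGroup_congr Subgroup.topEquiv.symm).2 inferInstance
  refine Recog.psl_of_sylow P ?_ (h.card_sylows' P) ?_ (h.comm_of_comm P) (by rw [hF, h.card_sylow])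
  · rw [h.card_sylow]; have := h.five; omega
  · rw [if_neg h.odd, h.card_sylow, h.two_card]

end Cfsg.Agent.PSL2.Spec.Hyp
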